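import Mathlib
import Cfsg.Prelude.Def_LieRecognition

/-!
# Dihedral arguments and inverted elements in groups of odd order
-/

set_option autoImplicit false

namespace Cfsg.Agent.RankOne

variable {G : Type*} [Group G]

theorem inv_eq_self_of_sq {t : G} (ht : t * t = 1) : t⁻¹ = t := inv_eq_of_mul_eq_one_left ht

theorem conj_mul_conj {t : G} (ht : t * t = 1) (x y : G) :
    t * x * t * (t * y * t) = t * (x * y) * t := by
  calc t * x * t * (t * y * t) = t * x * (t * t) * y * t := by simp only [mul_assoc]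
    _ = t * (x * y) * t := by rw [ht]; simp only [mul_one, mul_assoc]

theorem conj_conj_self {t : G} (ht : t * t = 1) (x : G) : t * (t * x * t) * t = x := by
  calc t * (t * x * t) * t = (t * t) * x * (t * t) := by simp only [mul_assoc]
    _ = x := by rw [ht, one_mul, mul_one]

theorem conj_inv {t : G} (ht : t * t = 1) (x : G) : (t * x * t)⁻¹ = t * x⁻¹ * t := by
  simp [mul_inv_rev, inv_eq_self_of_sq ht, mul_assoc]

theorem conj_pow_self {t : G} (ht : t * t = 1) (x : G) (n : ℕ) :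
    (t * x * t) ^ n = t * x ^ n * t := by
  induction n with
  | zero => simp [ht]
  | succ n ih => rw [pow_succ, pow_succ, ih, conj_mul_conj ht]

/-- Two involutions with product of odd order are conjugate by a power of the product. -/
theorem exists_zpow_conj_of_odd {s u : G} (hs : s * s = 1) (hu : u * u = 1)
    (h : Odd (orderOf (s * u))) : ∃ m : ℕ, (s * u) ^ m * s * ((s * u) ^ m)⁻¹ = u := by
  obtain ⟨m, hm⟩ := h
  refine ⟨m, ?_⟩
  have hinv : s * (s * u) * s = (s * u)⁻¹ := by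
    rw [mul_inv_rev, inv_eq_self_of_sq hs, inv_eq_self_of_sq hu, ← mul_assoc, hs, one_mul]
  have h2 : s * ((s * u) ^ m)⁻¹ = (s * u) ^ m * s := by
    rw [← inv_pow, ← hinv, conj_pow_self hs]
    rw [← mul_assoc, ← mul_assoc, hs, one_mul]
  rw [mul_assoc, h2, ← mul_assoc, ← pow_add]
  have h3 : (s * u) ^ (m + m) = (s * u)⁻¹ := by
    refine eq_inv_of_mul_eq_one_left ?_
    rw [← pow_succ, ← two_mul, ← hm, pow_orderOf_eq_one]
  rw [h3, mul_inv_rev, inv_eq_self_of_sq hs, inv_eq_self_of_sq hu, mul_assoc, hs, mul_one]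

/-- Two involutions with product of even order are centralised by a common involution. -/
theorem exists_central_of_even [Finite G] {s u : G} (hs : s * s = 1) (hu : u * u = 1)
    (h : Even (orderOf (s * u))) :
    ∃ z : G, z ≠ 1 ∧ z * z = 1 ∧ z * s = s * z ∧ z * u = u * z := by
  obtain ⟨k, hk⟩ := h
  have hpos : 0 < orderOf (s * u) := orderOf_pos _
  set z := (s * u) ^ k with hz
  have hzz : z * z = 1 := by rw [hz, ← pow_add, ← hk, pow_orderOf_eq_one]
  have hinv : s * (s * u) * s = (s * u)⁻¹ := by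
    rw [mul_inv_rev, inv_eq_self_of_sq hs, inv_eq_self_of_sq hu, ← mul_assoc, hs, one_mul]
  have hzs : z * s = s * z := by
    have h1 : s * z * s = z := by
      rw [hz, ← conj_pow_self hs, hinv, inv_pow]
      exact inv_eq_self_of_sq hzz
    calc z * s = s * z * s * s := by rw [h1]
      _ = s * z := by rw [mul_assoc, hs, mul_one]
  refine ⟨z, ?_, hzz, hzs, ?_⟩
  · refine pow_ne_one_of_lt_orderOf ?_ (by omega)
    omega
  · have hzw : Commute z (s * u) := Commute.pow_self _ _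
    have h1 := hzw.eq
    have e : u = s * (s * u) := by rw [← mul_assoc, hs, one_mul]
    calc z * u = z * (s * (s * u)) := by rw [← e]
      _ = s * ((s * u) * z) := by rw [← mul_assoc z, hzs, mul_assoc s z, h1]
      _ = s * (s * u) * z := by simp only [mul_assoc]
      _ = u * z := by rw [← e]

/-- The square root in a subgroup of odd order. -/
noncomputable def sqr (X : Subgroup G) (x : G) : G := x ^ ((Nat.card X + 1) / 2)

section Odd

variable {X : Subgroup G} (hX : Odd (Nat.card X))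

theorem sqr_mem {x : G} (hx : x ∈ X) : sqr X x ∈ X := X.pow_mem hx _

theorem sqr_conj {g x : G} : sqr X (g * x * g⁻¹) = g * sqr X x * g⁻¹ := conj_pow

theorem sqr_inv {x : G} : sqr X x⁻¹ = (sqr X x)⁻¹ := inv_pow _ _

theorem pow_card_mem {x : G} (hx : x ∈ X) : x ^ Nat.card X = 1 := by
  have h := pow_card_eq_one' (G := X) (x := ⟨x, hx⟩)
  exact (SubmonoidClass.coe_pow _ _).symm.trans (congrArg Subtype.val h)

include hX

theorem sqr_mul_self {x : G} (hx : x ∈ X) : sqr X x * sqr X x = x := by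
  obtain ⟨k, hk⟩ := hX
  rw [sqr, ← pow_add,
    show (Nat.card X + 1) / 2 + (Nat.card X + 1) / 2 = Nat.card X + 1 by omega,
    pow_succ, pow_card_mem hx, one_mul]

theorem sqr_sq {x : G} (hx : x ∈ X) : sqr X (x * x) = x := by
  obtain ⟨k, hk⟩ := hX
  rw [sqr, ← pow_two, ← pow_mul, show 2 * ((Nat.card X + 1) / 2) = Nat.card X + 1 by omega,
    pow_succ, pow_card_mem hx, one_mul]

theorem sq_injective {x y : G} (hx : x ∈ X) (hy : y ∈ X) (h : x * x = y * y) : x = y := by
  rw [← sqr_sq hX hx, h, sqr_sq hX hy]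

theorem eq_one_of_sq {x : G} (hx : x ∈ X) (h : x * x = 1) : x = 1 :=
  sq_injective hX hx X.one_mem (by rw [h, one_mul])

theorem eq_one_of_inv_eq {x : G} (hx : x ∈ X) (h : x⁻¹ = x) : x = 1 :=
  eq_one_of_sq hX hx (inv_eq_iff_mul_eq_one.1 h)

/-- If `x * x` commutes with `g` and `x` lies in a group of odd order, `x` commutes with `g`. -/
theorem commute_of_sq_commute {x g : G} (hx : x ∈ X) (h : g * (x * x) = x * x * g) :
    g * x = x * g := by
  have hc : Commute g (x * x) := h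
  have h2 := hc.pow_right ((Nat.card X + 1) / 2)
  have e := sqr_sq hX hx
  rw [sqr] at e
  rw [e] at h2
  exact h2.eq

end Odd

theorem mem_invertedBy {X : Subgroup G} {t x : G} (ht : t * t = 1) :
    x ∈ Cfsg.invertedBy X t ↔ x ∈ X ∧ t * x * t = x⁻¹ := by
  simp [Cfsg.invertedBy, inv_eq_self_of_sq ht]

theorem one_mem_invertedBy {X : Subgroup G} {t : G} (ht : t * t = 1) :
    (1 : G) ∈ Cfsg.invertedBy X t := (mem_invertedBy ht).2 ⟨X.one_mem, by simp [ht]⟩

theorem inv_mem_invertedBy {X : Subgroup G} {t x : G} (ht : t * t = 1)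
    (hx : x ∈ Cfsg.invertedBy X t) : x⁻¹ ∈ Cfsg.invertedBy X t := by
  rw [mem_invertedBy ht] at hx ⊢
  exact ⟨X.inv_mem hx.1, by rw [← conj_inv ht, hx.2]⟩

theorem mem_centralizer_singleton {t x : G} :
    x ∈ Subgroup.centralizer ({t} : Set G) ↔ t * x = x * t := by
  simp [Subgroup.mem_centralizer_iff]

section Decomposition

variable {t : G} (ht : t * t = 1) {X : Subgroup G} (hX : Odd (Nat.card X))
  (hn : ∀ x ∈ X, t * x * t ∈ X)

include ht hX hn

theorem sqr_mem_invertedBy {x : G} (hx : x ∈ Cfsg.invertedBy X t) :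
    sqr X x ∈ Cfsg.invertedBy X t := by
  rw [mem_invertedBy ht] at hx ⊢
  refine ⟨sqr_mem hx.1, ?_⟩
  rw [sqr, ← conj_pow_self ht, hx.2, inv_pow]

theorem inverted_factor {x : G} (hx : x ∈ X) :
    ∃ y ∈ X, t * y = y * t ∧ ∃ z ∈ Cfsg.invertedBy X t, x = y * z := by
  set w := (t * x * t)⁻¹ * x with hw
  have hwX : w ∈ X := X.mul_mem (X.inv_mem (hn x hx)) hx
  have hwI : w ∈ Cfsg.invertedBy X t := by
    refine (mem_invertedBy ht).2 ⟨hwX, ?_⟩
    rw [hw, ← conj_mul_conj ht, ← conj_inv ht (t * x * t), conj_conj_self ht]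
    group
  have hz := sqr_mem_invertedBy ht hX hn hwI
  refine ⟨x * (sqr X w)⁻¹, X.mul_mem hx (X.inv_mem (sqr_mem hwX)), ?_, sqr X w, hz, by group⟩
  have hz' : t * (sqr X w)⁻¹ * t = sqr X w := by
    rw [← conj_inv ht, ((mem_invertedBy ht).1 hz).2, inv_inv]
  have key : t * (x * (sqr X w)⁻¹) * t = x * (sqr X w)⁻¹ := by
    rw [← conj_mul_conj ht, hz', eq_mul_inv_iff_mul_eq, mul_assoc, sqr_mul_self hX hwX, hw,
      mul_inv_cancel_left]
  calc t * (x * (sqr X w)⁻¹) = t * (x * (sqr X w)⁻¹) * t * t := by rw [mul_assoc, ht, mul_one]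
    _ = _ := by rw [key]

theorem inverted_factor_unique {y y' z z' : G} (hy : t * y = y * t) (hy' : t * y' = y' * t)
    (hz : z ∈ Cfsg.invertedBy X t) (hz' : z' ∈ Cfsg.invertedBy X t) (h : y * z = y' * z') :
    y = y' ∧ z = z' := by
  have e : ∀ y z : G, t * y = y * t → z ∈ Cfsg.invertedBy X t →
      (t * (y * z) * t)⁻¹ * (y * z) = z * z := by
    intro y z hy hz
    have hy2 : t * y * t = y := by rw [hy, mul_assoc, ht, mul_one]
    rw [← conj_mul_conj ht, hy2, ((mem_invertedBy ht).1 hz).2]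
    group
  have h1 := e y z hy hz
  rw [h, e y' z' hy' hz'] at h1
  have h2 : z = z' := sq_injective hX hz.1 hz'.1 h1.symm
  subst h2
  exact ⟨mul_right_cancel h, rfl⟩

theorem card_eq_mul_inverted [Finite G] :
    Nat.card X = Nat.card ↥(X ⊓ Subgroup.centralizer {t}) * Nat.card (Cfsg.invertedBy X t) := by
  rw [← Nat.card_prod]
  refine (Nat.card_eq_of_bijective
    (fun p : ↥(X ⊓ Subgroup.centralizer {t}) × (Cfsg.invertedBy X t) =>
      (⟨p.1.1 * p.2.1, X.mul_mem p.1.2.1 p.2.2.1⟩ : X)) ⟨?_, ?_⟩).symm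
  · rintro ⟨⟨y, hy⟩, ⟨z, hz⟩⟩ ⟨⟨y', hy'⟩, ⟨z', hz'⟩⟩ h
    simp only [Subtype.mk.injEq] at h
    obtain ⟨rfl, rfl⟩ := inverted_factor_unique ht hX hn (mem_centralizer_singleton.1 hy.2)
      (mem_centralizer_singleton.1 hy'.2) hz hz' h
    rfl
  · rintro ⟨x, hx⟩
    obtain ⟨y, hy, hc, z, hz, rfl⟩ := inverted_factor ht hX hn hx
    exact ⟨(⟨y, hy, mem_centralizer_singleton.2 hc⟩, ⟨z, hz⟩), rfl⟩

theorem closure_inverted_conj {x : G} (hx : x ∈ X) {w : G}
    (hw : w ∈ Subgroup.closure (Cfsg.invertedBy X t)) :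
    x * w * x⁻¹ ∈ Subgroup.closure (Cfsg.invertedBy X t) := by
  obtain ⟨y, hy, hc, z, hz, rfl⟩ := inverted_factor ht hX hn hx
  set C := Subgroup.closure (Cfsg.invertedBy X t)
  have key : ∀ w ∈ C, y * w * y⁻¹ ∈ C := by
    intro w hw
    refine (Subgroup.closure_le (K := C.comap (MulAut.conj y).toMonoidHom)).2 ?_ hw
    intro v hv
    have hy2 : t * y * t = y := by rw [hc, mul_assoc, ht, mul_one]
    rw [mem_invertedBy ht] at hv
    refine Subgroup.subset_closure ((mem_invertedBy ht).2 ?_)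
    show y * v * y⁻¹ ∈ X ∧ t * (y * v * y⁻¹) * t = (y * v * y⁻¹)⁻¹
    refine ⟨X.mul_mem (X.mul_mem hy hv.1) (X.inv_mem hy), ?_⟩
    rw [← conj_mul_conj ht, ← conj_mul_conj ht, hy2, hv.2, ← conj_inv ht, hy2]
    group
  have e : y * z * w * (y * z)⁻¹ = y * (z * w * z⁻¹) * y⁻¹ := by group
  rw [e]
  exact key _ (C.mul_mem (C.mul_mem (Subgroup.subset_closure hz) hw)
    (C.inv_mem (Subgroup.subset_closure hz)))

/-- Inverted elements form a transversal of the centraliser of `t * k` (`k` inverted). -/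
theorem inverted_eq_of_commute {k z₁ z₂ : G} (hk : k ∈ Cfsg.invertedBy X t)
    (h₁ : z₁ ∈ Cfsg.invertedBy X t) (h₂ : z₂ ∈ Cfsg.invertedBy X t)
    (h : t * k * (z₂ * z₁⁻¹) = z₂ * z₁⁻¹ * (t * k)) : z₂ = z₁ := by
  have hd : t * (z₂ * z₁⁻¹) * t = z₂⁻¹ * z₁ := by
    rw [← conj_mul_conj ht, ((mem_invertedBy ht).1 h₂).2, ← conj_inv ht,
      ((mem_invertedBy ht).1 h₁).2, inv_inv]
  have h' : k * (z₂ * z₁⁻¹) = z₂⁻¹ * z₁ * k := by
    calc k * (z₂ * z₁⁻¹) = t * (t * k * (z₂ * z₁⁻¹)) := by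
          rw [← mul_assoc t, ← mul_assoc t t k, ht, one_mul]
      _ = (t * (z₂ * z₁⁻¹) * t) * k := by rw [h]; simp only [mul_assoc]
      _ = _ := by rw [hd]
  have h'' : z₂ * k * (z₂ * k) = z₁ * k * (z₁ * k) := by
    calc z₂ * k * (z₂ * k) = z₂ * (k * (z₂ * z₁⁻¹)) * (z₁ * k) := by group
      _ = z₁ * k * (z₁ * k) := by rw [h']; group
  exact mul_right_cancel (sq_injective hX (X.mul_mem h₂.1 hk.1) (X.mul_mem h₁.1 hk.1) h'')

/-- Decomposition of an inverted element with respect to a second, commuting, involution. -/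
theorem inverted_two_factor {s : G} (hs : s * s = 1) (hst : s * t = t * s)
    (hns : ∀ x ∈ X, s * x * s ∈ X) {z : G} (hz : z ∈ Cfsg.invertedBy X t) :
    ∃ a ∈ X, ∃ c ∈ X, z = a * c * a ∧ (t * s) * a = a * (t * s) ∧ s * c = c * s := by
  rw [mem_invertedBy ht] at hz
  obtain ⟨hzX, htz⟩ := hz
  set w := s * z * s with hw
  have hwX : w ∈ X := hns z hzX
  have htw : t * w * t = w⁻¹ := by
    calc t * w * t = (t * s) * z * (s * t) := by rw [hw]; simp only [mul_assoc]
      _ = s * (t * z * t) * s := by rw [← hst]; nth_rw 2 [hst]; simp only [mul_assoc]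
      _ = w⁻¹ := by rw [htz, hw, conj_inv hs]
  set r := sqr X (z * w) with hr
  have hzw : z * w ∈ X := X.mul_mem hzX hwX
  have hrX : r ∈ X := sqr_mem hzw
  have hrr : r * r = z * w := sqr_mul_self hX hzw
  set b := r * w⁻¹ with hb
  have hbX : b ∈ X := X.mul_mem hrX (X.inv_mem hwX)
  have hrz : sqr X (w * z) = w * r * w⁻¹ := by
    rw [hr, ← sqr_conj]; congr 1; group
  have hbt : t * b * t = b⁻¹ := by
    have h1 : t * r * t = (w * r * w⁻¹)⁻¹ := by
      rw [← hrz, hr, sqr, ← conj_pow_self ht, ← conj_mul_conj ht, htz, htw, ← mul_inv_rev,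
        inv_pow]
      rfl
    rw [hb, ← conj_mul_conj ht, h1, ← conj_inv ht, htw]
    group
  have hbs : s * b * s = b⁻¹ := by
    have h1 : s * r * s = w * r * w⁻¹ := by
      rw [← hrz, hr, sqr, ← conj_pow_self hs, ← conj_mul_conj hs, ← hw]
      nth_rw 1 [hw]
      rw [conj_conj_self hs]
      rfl
    have h2 : s * w * s = z := by rw [hw, conj_conj_self hs]
    rw [hb, ← conj_mul_conj hs, h1, ← conj_inv hs, h2]
    calc w * r * w⁻¹ * z⁻¹ = w * r * (z * w)⁻¹ := by group
      _ = _ := by rw [← hrr]; group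
  set a := sqr X b with ha
  have haX : a ∈ X := sqr_mem hbX
  have haa : a * a = b := sqr_mul_self hX hbX
  have hat : t * a * t = a⁻¹ := by rw [ha, sqr, ← conj_pow_self ht, hbt, inv_pow]
  have has : s * a * s = a⁻¹ := by rw [ha, sqr, ← conj_pow_self hs, hbs, inv_pow]
  refine ⟨a, haX, a⁻¹ * z * a⁻¹, X.mul_mem (X.mul_mem (X.inv_mem haX) hzX) (X.inv_mem haX),
    by group, ?_, ?_⟩
  · have h1 : t * s * a * (s * t) = a := by
      calc t * s * a * (s * t) = t * (s * a * s) * t := by simp only [mul_assoc]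
        _ = a := by rw [has, ← conj_inv ht, hat, inv_inv]
    calc t * s * a = t * s * a * (s * t) * (t * s) := by
          rw [mul_assoc _ (s * t), mul_assoc s t, ← mul_assoc t t s, ht, one_mul, hs, mul_one]
      _ = _ := by rw [h1]
  · have h1 : s * (a⁻¹ * z * a⁻¹) * s = a⁻¹ * z * a⁻¹ := by
      have : s * a⁻¹ * s = a := by rw [← conj_inv hs, has, inv_inv]
      rw [← conj_mul_conj hs, ← conj_mul_conj hs, this, ← hw]
      have h3 : b * w * b = z := by
        rw [hb]
        calc r * w⁻¹ * w * (r * w⁻¹) = r * r * w⁻¹ := by group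
          _ = z := by rw [hrr]; group
      calc a * w * a = a⁻¹ * (a * a * w * (a * a)) * a⁻¹ := by group
        _ = _ := by rw [haa, h3]
    calc s * (a⁻¹ * z * a⁻¹) = s * (a⁻¹ * z * a⁻¹) * s * s := by rw [mul_assoc _ s s, hs, mul_one]
      _ = _ := by rw [h1]

/-- An odd-order group normalised by a four-group is generated by the three centralisers. -/
theorem mem_of_centralizers_le {s : G} (hs : s * s = 1) (hst : s * t = t * s)
    (hns : ∀ x ∈ X, s * x * s ∈ X) (H : Subgroup G)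
    (h₁ : ∀ x ∈ X, t * x = x * t → x ∈ H) (h₂ : ∀ x ∈ X, s * x = x * s → x ∈ H)
    (h₃ : ∀ x ∈ X, t * s * x = x * (t * s) → x ∈ H) {x : G} (hx : x ∈ X) : x ∈ H := by
  obtain ⟨y, hy, hc, z, hz, rfl⟩ := inverted_factor ht hX hn hx
  obtain ⟨a, ha, c, hc', rfl, hac, hcs⟩ := inverted_two_factor ht hX hn hs hst hns hz
  exact H.mul_mem (h₁ y hy hc)
    (H.mul_mem (H.mul_mem (h₃ a ha hac) (h₂ c hc' hcs)) (h₃ a ha hac))

end Decomposition

end Cfsg.Agent.RankOne
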