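import Cfsg.Agent.RankOne.Structure
import Cfsg.Agent.S0033
import Cfsg.Agent.SolvStruct.Nilpotent

/-!
# The split rank-one set-up: `Q` is nilpotent, involutions are central
-/

set_option autoImplicit false

namespace Cfsg.Agent.RankOne

open Subgroup MulAction

variable {G Ω : Type*} [Group G] [Finite G] [MulAction G Ω] {a : Ω} {t : G} {Q : Subgroup G}

variable (hS : Cfsg.IsRankOneSetup G Ω a t Q)
include hS

theorem K_pow {x : G} (hx : x ∈ K a t) (n : ℕ) : x ^ n ∈ K a t := by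
  rw [mem_K hS] at hx ⊢
  exact ⟨(D a t).pow_mem hx.1 n, by rw [← conj_pow_self hS.mul_self, hx.2, inv_pow]⟩

theorem K_nontrivial (h2 : ∃ x y : G, x ≠ 1 ∧ y ≠ 1 ∧ x ≠ y ∧ x * x = 1 ∧ y * y = 1 ∧
    x * y = y * x) : ∃ x ∈ K a t, x ≠ 1 := by
  obtain ⟨s₁, h₁, s₂, h₂, hne, -⟩ := exists_two_Ia hS h2
  obtain ⟨k, hk, e⟩ := K_transitive hS h₁ h₂
  refine ⟨k, hk, fun h => hne ?_⟩
  rw [← e, h]; simp

variable [FaithfulSMul G Ω]

theorem Q_nilpotent (h2 : ∃ x y : G, x ≠ 1 ∧ y ≠ 1 ∧ x ≠ y ∧ x * x = 1 ∧ y * y = 1 ∧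
    x * y = y * x) : Group.IsNilpotent Q := by
  obtain ⟨x, hxK, hx1⟩ := K_nontrivial hS h2
  obtain ⟨p, hp, hpd⟩ := Nat.exists_prime_and_dvd (n := orderOf x) (by simpa using hx1)
  haveI := Fact.mk hp
  set y := x ^ (orderOf x / p) with hy
  have hord : orderOf y = p :=
    orderOf_pow_orderOf_div (orderOf_pos x).ne' hpd
  have hyK : y ∈ K a t := K_pow hS hxK _
  have hy1 : y ≠ 1 := fun h => hp.ne_one (by rw [← hord, h, orderOf_one])
  have hyN : y ∈ Subgroup.normalizer (Q : Set G) := by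
    rw [Subgroup.mem_normalizer_iff]
    intro z
    refine ⟨fun hz => hS.conj_mem y hyK.1.1 z hz, fun hz => ?_⟩
    have := hS.conj_mem y⁻¹ ((stabilizer G a).inv_mem hyK.1.1) _ hz
    simpa [mul_assoc] using this
  set φ : Q ≃* Q := Subgroup.normalizerMonoidHom Q ⟨y, hyN⟩ with hφ
  have hfpf : MonoidHom.FixedPointFree (φ : Q →* Q) := by
    rintro ⟨q, hq⟩ h
    have h' : y * q * y⁻¹ = q := congrArg Subtype.val h
    exact Subtype.ext (K_fpf hS hyK hy1 hq (mul_inv_eq_iff_eq_mul.1 h'))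
  refine Cfsg.Agent.S0033.result φ hfpf p hp (orderOf_eq_prime ?_ ?_)
  · have h1 : (⟨y, hyN⟩ : Subgroup.normalizer (Q : Set G)) ^ p = 1 := by
      refine Subtype.ext ?_
      simp only [SubgroupClass.coe_pow, OneMemClass.coe_one]
      rw [← hord, pow_orderOf_eq_one]
    rw [hφ, ← map_pow, h1, map_one]
  · intro h
    obtain ⟨s, hs, hs1, -⟩ := exists_involution_Q hS
    exact hs1 (congrArg Subtype.val (hfpf ⟨s, hs⟩ (by
      show φ ⟨s, hs⟩ = _
      rw [h]; rfl)))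

theorem Ia_central (h2 : ∃ x y : G, x ≠ 1 ∧ y ≠ 1 ∧ x ≠ y ∧ x * x = 1 ∧ y * y = 1 ∧
    x * y = y * x) {s : G} (hs : s ∈ Ia G a) {x : G} (hx : x ∈ Q) : s * x = x * s := by
  haveI : Fact (Nat.Prime 2) := ⟨Nat.prime_two⟩
  haveI := Q_nilpotent hS h2
  obtain ⟨P⟩ := (inferInstance : Nonempty (Sylow 2 Q))
  haveI : (P : Subgroup Q).Normal := Sylow.normal_of_normalizerCondition
    Group.normalizerCondition_of_isNilpotent P
  have hne : (P : Subgroup Q) ≠ ⊥ :=
    P.ne_bot_of_dvd_card (even_iff_two_dvd.1 hS.even_card)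
  obtain ⟨z, hz, hz1⟩ := (Subgroup.bot_or_exists_ne_one _).resolve_left
    (SolvStruct.nilpotent_inf_center_ne_bot (P : Subgroup Q) hne)
  obtain ⟨n, hn⟩ := P.isPGroup' ⟨z, hz.1⟩
  have hn' : z ^ 2 ^ n = 1 := congrArg Subtype.val hn
  have hord2 : 2 ∣ orderOf z := by
    obtain ⟨j, -, hj⟩ := (Nat.dvd_prime_pow Nat.prime_two).1 (orderOf_dvd_of_pow_eq_one hn')
    rw [hj]
    refine dvd_pow_self 2 fun h => hz1 ?_
    rw [h, pow_zero, orderOf_eq_one_iff] at hj
    exact hj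
  set w := z ^ (orderOf z / 2) with hw
  have hwo : orderOf w = 2 := orderOf_pow_orderOf_div (orderOf_pos z).ne' hord2
  have hwc : w ∈ Subgroup.center Q := Subgroup.pow_mem _ hz.2 _
  have hwI : (w : G) ∈ Ia G a := by
    refine ⟨Q_fix hS w.2, fun h => ?_, ?_⟩
    · rw [show w = 1 from Subtype.ext h, orderOf_one] at hwo
      exact absurd hwo (by norm_num)
    · have := pow_orderOf_eq_one w
      rw [hwo, pow_two] at this
      exact congrArg Subtype.val this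
  obtain ⟨k, hk, rfl⟩ := K_transitive hS hwI hs
  have hx' : k * x * k⁻¹ ∈ Q := hS.conj_mem k hk.1.1 x hx
  have hc : (w : G) * (k * x * k⁻¹) = k * x * k⁻¹ * w :=
    (congrArg Subtype.val (Subgroup.mem_center_iff.1 hwc ⟨_, hx'⟩)).symm
  calc k⁻¹ * w * k * x = k⁻¹ * ((w : G) * (k * x * k⁻¹)) * k := by group
    _ = _ := by rw [hc]; group

theorem commute_of_fix (h2 : ∃ x y : G, x ≠ 1 ∧ y ≠ 1 ∧ x ≠ y ∧ x * x = 1 ∧ y * y = 1 ∧
    x * y = y * x) {u v : G} (hu1 : u ≠ 1) (hu : u * u = 1) (hv1 : v ≠ 1) (hv : v * v = 1)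
    {p : Ω} (hup : u • p = p) (hvp : v • p = p) : u * v = v * u := by
  obtain ⟨g, hg⟩ := pretransitive hS p a
  have hfix : ∀ w : G, w • p = p → (g * w * g⁻¹) • a = a := fun w hw => by
    rw [← hg, mul_smul, mul_smul, inv_smul_smul, hw]
  have h1 := Ia_central hS h2 (s := g * u * g⁻¹) ⟨hfix u hup, conj_invol_props g ⟨hu1, hu⟩⟩
    (invol_mem_Q hS (conj_invol_props g ⟨hv1, hv⟩).2 (hfix v hvp))
  rw [conj_mul, conj_mul] at h1
  exact mul_left_cancel (mul_right_cancel h1)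

theorem strongly_real (h2 : ∃ x y : G, x ≠ 1 ∧ y ≠ 1 ∧ x ≠ y ∧ x * x = 1 ∧ y * y = 1 ∧
    x * y = y * x) {u v : G} (hu1 : u ≠ 1) (hu : u * u = 1) (hv1 : v ≠ 1) (hv : v * v = 1)
    (hx : u * v * (u * v) ≠ 1) :
    (∃ g : G, ∃ u' ∈ Ia G a, g * (u * v) * g⁻¹ = u' * t) ∧
      Odd (Nat.card ↥(Subgroup.centralizer {u * v})) := by
  have hnc : ∀ p : Ω, u • p = p → v • p ≠ p := by
    intro p hup hvp
    have h := commute_of_fix hS h2 hu1 hu hv1 hv hup hvp
    refine hx ?_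
    calc u * v * (u * v) = u * v * (v * u) := by rw [← h]
      _ = 1 := by rw [mul_assoc, ← mul_assoc v, hv, one_mul, hu]
  constructor
  · obtain ⟨p, hp⟩ := exists_fix_invol hS hu
    obtain ⟨g, hg1, hg2⟩ := two_trans hS (hnc p hp).symm (b_ne hS).symm
    have hu' : g * u * g⁻¹ ∈ Ia G a :=
      ⟨show (g * u * g⁻¹) • a = a by rw [← hg1, mul_smul, mul_smul, inv_smul_smul, hp],
        conj_invol_props g ⟨hu1, hu⟩⟩
    have hva : (g * v * g⁻¹) • a = t • a := by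
      rw [← hg2, ← hg1, mul_smul, mul_smul, inv_smul_smul]
    have hk := t_mul_mem_K hS (conj_invol_props g ⟨hv1, hv⟩).2 hva
    set z := sqr (D a t) (t * (g * v * g⁻¹)) with hz
    have hzz : z * z = t * (g * v * g⁻¹) := sqr_mul_self (odd_D hS) hk.1
    have hzK : z ∈ K a t := sqr_K hS hk
    have hzt := ((mem_K hS).1 hzK).2
    have hv' : z * (g * v * g⁻¹) * z⁻¹ = t := by
      calc z * (g * v * g⁻¹) * z⁻¹ = z * (t * t * (g * v * g⁻¹)) * z⁻¹ := by
            rw [hS.mul_self, one_mul]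
        _ = z * t * z := by rw [mul_assoc t t, ← hzz]; group
        _ = z * (t * z * t) * t := by
            rw [mul_assoc z (t * z * t), mul_assoc (t * z) t t, hS.mul_self, mul_one, ← mul_assoc]
        _ = t := by rw [hzt, mul_inv_cancel, one_mul]
    refine ⟨z * g, z * (g * u * g⁻¹) * z⁻¹, conj_mem_Ia hS hu' hzK.1.1, ?_⟩
    calc z * g * (u * v) * (z * g)⁻¹ = z * (g * u * g⁻¹) * z⁻¹ * (z * (g * v * g⁻¹) * z⁻¹) := by
          group
      _ = _ := by rw [hv']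
  · by_contra hodd
    rw [Nat.not_odd_iff_even] at hodd
    obtain ⟨w, hw⟩ := exists_prime_orderOf_dvd_card' 2 (even_iff_two_dvd.1 hodd)
    have hw2 : (w : G) * w = 1 := by
      have := pow_orderOf_eq_one w
      rw [hw, pow_two] at this
      exact congrArg Subtype.val this
    have hw1 : (w : G) ≠ 1 := fun h => by
      rw [show w = 1 from Subtype.ext h, orderOf_one] at hw
      exact absurd hw (by norm_num)
    obtain ⟨p, hp⟩ := exists_fix_invol hS hw2
    have hwc := mem_centralizer_singleton.1 w.2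
    have hxp : (u * v) • p = p := fix_of_commute hS hw1 hw2 hwc.symm hp
    have hup : u • p = v • p := by
      conv_lhs => rw [← hxp, mul_smul, ← mul_smul, hu, one_smul]
    have hne : v • p ≠ p := fun h => hnc p (hup.trans h) h
    obtain ⟨g, hg1, hg2⟩ := two_trans hS hne.symm (b_ne hS).symm
    have himg : ∀ w : G, (g * w * g⁻¹) • a = g • w • p := fun w => by
      rw [← hg1, mul_smul, mul_smul, inv_smul_smul]
    have hua : (g * u * g⁻¹) • a = t • a := by rw [himg, hup, hg2]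
    have hva : (g * v * g⁻¹) • a = t • a := by rw [himg, hg2]
    have h₁ := t_mul_mem_K hS (conj_invol_props g ⟨hu1, hu⟩).2 hua
    have h₂ := t_mul_mem_K hS (conj_invol_props g ⟨hv1, hv⟩).2 hva
    set k₁ := t * (g * u * g⁻¹) with hk₁
    set k₂ := t * (g * v * g⁻¹) with hk₂
    have hxk : g * (u * v) * g⁻¹ = k₁⁻¹ * k₂ := by
      rw [hk₁, hk₂, ← conj_mul, mul_inv_rev, t_inv hS,
        inv_eq_self_of_sq (conj_invol_props g ⟨hu1, hu⟩).2, mul_assoc _ t, ← mul_assoc t t,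
        hS.mul_self, one_mul]
    have hwI : g * (w : G) * g⁻¹ ∈ Ia G a :=
      ⟨show (g * (w : G) * g⁻¹) • a = a by rw [himg, hp, hg1],
        conj_invol_props g ⟨hw1, hw2⟩⟩
    obtain ⟨k₀, hk₀, -, -, -, hiff⟩ := exists_partner hS hwI
    have hwx : g * (w : G) * g⁻¹ * (k₁⁻¹ * k₂) = k₁⁻¹ * k₂ * (g * (w : G) * g⁻¹) := by
      rw [← hxk, conj_mul, conj_mul, hwc]
    have hdD : k₁⁻¹ * k₂ ∈ D a t := (D a t).mul_mem ((D a t).inv_mem h₁.1) h₂.1
    have heq := inverted_eq_of_commute hS.mul_self (odd_D hS) (D_normalized hS) hk₀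
      (K_inv hS h₂) (K_inv hS h₁)
      (by rw [inv_inv]; exact (hiff _ hdD).2 hwx)
    rw [heq, inv_mul_cancel, conj_eq_one_iff] at hxk
    exact hx (by rw [hxk, one_mul])

end Cfsg.Agent.RankOne
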