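import Cfsg.Agent.RankOne.Inverted

/-!
# The split rank-one set-up: regularity, canonical form, involutions
-/

set_option autoImplicit false

namespace Cfsg.Agent.RankOne

open Subgroup MulAction

variable {G Ω : Type*} [Group G] [Finite G] [MulAction G Ω] {a : Ω} {t : G} {Q : Subgroup G}

/-- The two-point stabiliser. -/
abbrev D (a : Ω) (t : G) : Subgroup G := stabilizer G a ⊓ stabilizer G (t • a)

omit [Finite G] in
theorem mem_D {g : G} : g ∈ D a t ↔ g • a = a ∧ g • t • a = t • a := Iff.rfl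

variable (hS : Cfsg.IsRankOneSetup G Ω a t Q)
include hS

theorem two_trans {a₁ b₁ a₂ b₂ : Ω} (h₁ : a₁ ≠ b₁) (h₂ : a₂ ≠ b₂) :
    ∃ g : G, g • a₁ = a₂ ∧ g • b₁ = b₂ :=
  is_two_pretransitive_iff.1 hS.two_transitive h₁ h₂

theorem t_inv : t⁻¹ = t := inv_eq_self_of_sq hS.mul_self

theorem b_ne : t • a ≠ a := hS.not_mem

theorem t_smul_b : t • t • a = a := by rw [← mul_smul, hS.mul_self, one_smul]

theorem Q_fix {x : G} (hx : x ∈ Q) : x • a = a := hS.le hx

theorem Q_inf_D {x : G} (hx : x ∈ Q) (hb : x • t • a = t • a) : x = 1 := by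
  have h : x ∈ Q ⊓ stabilizer G (t • a) := ⟨hx, hb⟩
  rw [hS.inf_eq_bot] at h
  exact h

theorem decomp {g : G} (hg : g • a = a) : ∃ x ∈ Q, ∃ d ∈ D a t, g = x * d := by
  have hg' : g ∈ Q ⊔ D a t := by rw [hS.sup_eq]; exact hg
  have hle : D a t ≤ Subgroup.normalizer (Q : Set G) := by
    intro d hd
    rw [Subgroup.mem_normalizer_iff]
    intro x
    refine ⟨fun hx => hS.conj_mem d hd.1 x hx, fun hx => ?_⟩
    have := hS.conj_mem d⁻¹ ((stabilizer G a).inv_mem hd.1) _ hx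
    simpa [mul_assoc] using this
  rw [← SetLike.mem_coe, Subgroup.coe_mul_of_right_le_normalizer_left _ _ hle] at hg'
  obtain ⟨x, hx, d, hd, rfl⟩ := Set.mem_mul.1 hg'
  exact ⟨x, hx, d, hd, rfl⟩

theorem decomp_unique {x x' d d' : G} (hx : x ∈ Q) (hx' : x' ∈ Q) (hd : d ∈ D a t)
    (hd' : d' ∈ D a t) (h : x * d = x' * d') : x = x' ∧ d = d' := by
  have e : x'⁻¹ * x = d' * d⁻¹ := by
    rw [inv_mul_eq_iff_eq_mul, ← mul_assoc, ← h]; group
  have h1 : x'⁻¹ * x = 1 := Q_inf_D hS (Q.mul_mem (Q.inv_mem hx') hx) (by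
    rw [e]; exact ((D a t).mul_mem hd' ((D a t).inv_mem hd)).2)
  have h2 : x' = x := inv_mul_eq_one.1 h1
  exact ⟨h2.symm, mul_left_cancel (h2 ▸ h)⟩

theorem Q_trans {c : Ω} (hc : c ≠ a) : ∃ x ∈ Q, x • t • a = c := by
  obtain ⟨g, hga, hgb⟩ := two_trans hS (b_ne hS).symm hc.symm
  obtain ⟨x, hx, d, hd, rfl⟩ := decomp hS hga
  exact ⟨x, hx, by rw [← hgb, mul_smul, hd.2]⟩

theorem Q_semireg {x : G} (hx : x ∈ Q) {c : Ω} (hc : c ≠ a) (h : x • c = c) : x = 1 := by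
  obtain ⟨y, hy, rfl⟩ := Q_trans hS hc
  have h1 := Q_inf_D hS (Q.mul_mem (Q.mul_mem (Q.inv_mem hy) hx) hy)
    (by rw [mul_smul, mul_smul, h, inv_smul_smul])
  calc x = y * (y⁻¹ * x * y) * y⁻¹ := by group
    _ = 1 := by rw [h1]; group

theorem Q_eq_of_smul {x y : G} (hx : x ∈ Q) (hy : y ∈ Q) {c : Ω} (hc : c ≠ a)
    (h : x • c = y • c) : x = y := by
  have := Q_semireg hS (Q.mul_mem (Q.inv_mem hy) hx) hc (by rw [mul_smul, h, inv_smul_smul])
  exact (inv_mul_eq_one.1 this).symm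

theorem Q_regular {b c : Ω} (hb : b ≠ a) (hc : c ≠ a) : ∃! x : Q, (x : G) • b = c := by
  obtain ⟨y, hy, rfl⟩ := Q_trans hS hb
  obtain ⟨z, hz, rfl⟩ := Q_trans hS hc
  refine ⟨⟨z * y⁻¹, Q.mul_mem hz (Q.inv_mem hy)⟩, by simp [mul_smul], ?_⟩
  rintro ⟨x, hx⟩ hxe
  exact Subtype.ext (Q_eq_of_smul hS hx (Q.mul_mem hz (Q.inv_mem hy)) hb
    (hxe.trans (by simp [mul_smul])))

/-- `Q` parametrises the points other than `a`. -/
noncomputable def ptEquiv : Q ≃ {c : Ω // c ≠ a} :=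
  Equiv.ofBijective (fun x => ⟨(x : G) • t • a, fun h => b_ne hS
      (smul_left_cancel (x : G) (h.trans (Q_fix hS x.2).symm))⟩)
    ⟨fun x y h => Subtype.ext (Q_eq_of_smul hS x.2 y.2 (b_ne hS) (congrArg Subtype.val h)),
      fun c => by
        obtain ⟨x, hx, e⟩ := Q_trans hS c.2
        exact ⟨⟨x, hx⟩, Subtype.ext e⟩⟩

theorem finite_omega : Finite Ω := by
  classical
  haveI : Finite {c : Ω // c ≠ a} := Finite.of_equiv Q (ptEquiv hS)
  exact Finite.of_surjective (fun o : Option {c : Ω // c ≠ a} => o.elim a Subtype.val) (fun c => by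
    by_cases h : c = a
    · exact ⟨none, h.symm⟩
    · exact ⟨some ⟨c, h⟩, rfl⟩)

theorem card_omega : Nat.card Ω = Nat.card Q + 1 := by
  classical
  haveI := finite_omega hS
  haveI : Fintype Ω := Fintype.ofFinite Ω
  have h := Nat.card_congr (ptEquiv hS)
  rw [Nat.card_eq_fintype_card (α := {c : Ω // c ≠ a}), Fintype.card_subtype_compl,
    Fintype.card_subtype_eq] at h
  have := Fintype.card_pos_iff.2 ⟨a⟩
  rw [h, Nat.card_eq_fintype_card]
  omega

theorem canonical {g : G} (hg : g • a ≠ a) :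
    ∃! p : G × G, p.1 ∈ stabilizer G a ∧ p.2 ∈ Q ∧ g = p.1 * t * p.2 := by
  have hga : g⁻¹ • a ≠ a := by
    intro h; exact hg (by rw [eq_comm, ← h, smul_inv_smul, h])
  obtain ⟨x, hx, e⟩ := Q_trans hS hga
  refine ⟨(g * x * t, x⁻¹), ⟨?_, Q.inv_mem hx, ?_⟩, ?_⟩
  · show (g * x * t) • a = a
    rw [mul_smul, mul_smul, e, smul_inv_smul]
  · show g = g * x * t * t * x⁻¹
    rw [mul_assoc (g * x) t t, hS.mul_self]; group
  · rintro ⟨p, y⟩ ⟨hp, hy, he⟩
    simp only at hp hy he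
    have hy' : y⁻¹ • t • a = g⁻¹ • a := by
      rw [he, eq_inv_smul_iff, mul_smul, mul_smul, smul_inv_smul, t_smul_b hS]
      exact hp
    have h : y⁻¹ = x := Q_eq_of_smul hS (Q.inv_mem hy) hx (b_ne hS) (hy'.trans e.symm)
    subst h
    refine Prod.ext ?_ (by simp)
    show p = g * y⁻¹ * t
    rw [he, mul_inv_cancel_right, mul_assoc, hS.mul_self, mul_one]

theorem canonical_unique {g h f g' h' f' : G} (hg : g ∈ Q) (hh : h ∈ D a t) (hf : f ∈ Q)
    (hg' : g' ∈ Q) (hh' : h' ∈ D a t) (hf' : f' ∈ Q) (e : g * h * t * f = g' * h' * t * f') :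
    g = g' ∧ h = h' ∧ f = f' := by
  have hne : (g * h * t * f) • a ≠ a := by
    intro h0
    rw [mul_smul, mul_smul, mul_smul, Q_fix hS hf] at h0
    rw [hh.2] at h0
    exact b_ne hS (smul_left_cancel g (h0.trans (Q_fix hS hg).symm))
  obtain ⟨p, -, hp⟩ := canonical hS hne
  have h1 := hp (g * h, f)
    ⟨(stabilizer G a).mul_mem (hS.le hg) hh.1, hf, rfl⟩
  have h2 := hp (g' * h', f')
    ⟨(stabilizer G a).mul_mem (hS.le hg') hh'.1, hf', e⟩
  have h3 := h1.trans h2.symm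
  obtain ⟨h4, h5⟩ := decomp_unique hS hg hg' hh hh' (congrArg Prod.fst h3)
  exact ⟨h4, h5, congrArg Prod.snd h3⟩

theorem D_conj_t {d : G} (hd : d ∈ D a t) : t * d * t ∈ D a t := by
  refine mem_D.2 ⟨?_, ?_⟩
  · rw [mul_smul, mul_smul, hd.2, t_smul_b hS]
  · rw [mul_smul, mul_smul, t_smul_b hS, hd.1]

theorem odd_D : Odd (Nat.card (D a t)) := hS.odd_card

theorem card_stab : Nat.card (stabilizer G a) = Nat.card Q * Nat.card (D a t) := by
  rw [← Nat.card_prod]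
  refine (Nat.card_eq_of_bijective (fun p : Q × D a t =>
    (⟨p.1.1 * p.2.1, (stabilizer G a).mul_mem (hS.le p.1.2) p.2.2.1⟩ : stabilizer G a))
      ⟨?_, ?_⟩).symm
  · rintro ⟨⟨x, hx⟩, ⟨d, hd⟩⟩ ⟨⟨x', hx'⟩, ⟨d', hd'⟩⟩ h
    obtain ⟨rfl, rfl⟩ := decomp_unique hS hx hx' hd hd' (congrArg Subtype.val h)
    rfl
  · rintro ⟨g, hg⟩
    obtain ⟨x, hx, d, hd, rfl⟩ := decomp hS hg
    exact ⟨(⟨x, hx⟩, ⟨d, hd⟩), rfl⟩

theorem card_group : Nat.card G = Nat.card Q * Nat.card (D a t) * (Nat.card Q + 1) := by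
  haveI : IsPretransitive G Ω := ⟨fun x y => by
    rcases eq_or_ne x a with rfl | hx <;> rcases eq_or_ne y x with rfl | hy
    · exact ⟨1, one_smul _ _⟩
    · obtain ⟨g, h, -⟩ := two_trans hS (b_ne hS).symm
        (show y ≠ x from hy)
      exact ⟨g, h⟩
    · exact ⟨1, one_smul _ _⟩
    · obtain ⟨g, h, -⟩ := two_trans hS hx hy
      exact ⟨g, h⟩⟩
  rw [← (stabilizer G a).card_mul_index, index_stabilizer_of_transitive, card_stab hS,
    card_omega hS]

theorem exists_involution_Q : ∃ s ∈ Q, s ≠ 1 ∧ s * s = 1 := by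
  obtain ⟨x, hx⟩ := exists_prime_orderOf_dvd_card' (G := Q) 2 (even_iff_two_dvd.1 hS.even_card)
  refine ⟨x, x.2, fun h => ?_, ?_⟩
  · have h1 : x = 1 := Subtype.ext h
    simp [h1] at hx
  · have := pow_orderOf_eq_one x
    rw [hx, pow_two] at this
    exact congrArg Subtype.val this

theorem invol_mem_Q {u : G} (hu : u * u = 1) (ha : u • a = a) : u ∈ Q := by
  obtain ⟨x, hx, d, hd, rfl⟩ := decomp hS ha
  have h1 : (x * (d * x * d⁻¹)) * (d * d) = 1 * 1 := by rw [mul_one]; rw [← hu]; group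
  obtain ⟨-, h2⟩ := decomp_unique hS (Q.mul_mem hx (hS.conj_mem d hd.1 x hx)) Q.one_mem
    ((D a t).mul_mem hd hd) (D a t).one_mem h1
  rw [eq_one_of_sq (odd_D hS) hd h2, mul_one]
  exact hx

theorem fix_unique {u : G} (hu1 : u ≠ 1) (hu : u * u = 1) {p p' : Ω} (hp : u • p = p)
    (hp' : u • p' = p') : p = p' := by
  by_contra hne
  obtain ⟨g, hg1, hg2⟩ := two_trans hS hne (b_ne hS).symm
  have hd : g * u * g⁻¹ ∈ D a t := by
    refine mem_D.2 ⟨?_, ?_⟩
    · rw [← hg1, mul_smul, mul_smul, inv_smul_smul, hp]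
    · rw [← hg2, mul_smul, mul_smul, inv_smul_smul, hp']
  have h1 := eq_one_of_sq (odd_D hS) hd (by
    calc g * u * g⁻¹ * (g * u * g⁻¹) = g * (u * u) * g⁻¹ := by group
      _ = 1 := by rw [hu]; group)
  exact hu1 (conj_eq_one_iff.1 h1)

theorem exists_fix {u : G} (hu : ∃ n : ℕ, u ^ (2 ^ n) = 1) : ∃ p : Ω, u • p = p := by
  classical
  haveI := finite_omega hS
  haveI : Fintype Ω := Fintype.ofFinite Ω
  haveI : Fact (Nat.Prime 2) := ⟨Nat.prime_two⟩
  obtain ⟨n, hn⟩ := hu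
  have hodd : ¬ 2 ∣ Fintype.card Ω := by
    rw [← Nat.card_eq_fintype_card, card_omega hS, Nat.two_dvd_ne_zero]
    obtain ⟨k, hk⟩ := hS.even_card
    omega
  exact Equiv.Perm.exists_fixed_point_of_prime (σ := MulAction.toPermHom G Ω u) hodd
    (n := n) (by rw [← map_pow, hn, map_one])

theorem exists_fix_invol {u : G} (hu : u * u = 1) : ∃ p : Ω, u • p = p :=
  exists_fix hS ⟨1, by simpa [pow_two] using hu⟩

theorem invol_fix_eq {u : G} (hu1 : u ≠ 1) (hu : u * u = 1) (ha : u • a = a) {p : Ω}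
    (hp : u • p = p) : p = a := fix_unique hS hu1 hu hp ha

theorem fix_of_commute {z u : G} (hz1 : z ≠ 1) (hz : z * z = 1) (hc : z * u = u * z) {p : Ω}
    (hp : z • p = p) : u • p = p :=
  fix_unique hS hz1 hz (by rw [← mul_smul, hc, mul_smul, hp]) hp

theorem odd_mul {s u : G} (ha : s • a = a) (hs1 : s ≠ 1) (hs : s * s = 1) (hu1 : u ≠ 1)
    (hu : u * u = 1) (hua : u • a ≠ a) : Odd (orderOf (s * u)) := by
  rcases Nat.even_or_odd (orderOf (s * u)) with he | ho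
  · exfalso
    obtain ⟨z, hz1, hz, hzs, hzu⟩ := exists_central_of_even hs hu he
    have hza : z • a = a := fix_of_commute hS hs1 hs hzs.symm ha
    exact hua (fix_of_commute hS hz1 hz hzu hza)
  · exact ho

theorem conj_of_fix_ne {u v : G} (hu1 : u ≠ 1) (hu : u * u = 1) (hv1 : v ≠ 1) (hv : v * v = 1)
    {p : Ω} (hup : u • p = p) (hvp : v • p ≠ p) : ∃ g : G, g * u * g⁻¹ = v := by
  obtain ⟨q, hq⟩ := exists_fix_invol hS hv
  have hpq : q ≠ p := by rintro rfl; exact hvp hq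
  obtain ⟨g, hg, -⟩ := two_trans hS hpq.symm (b_ne hS).symm
  have hodd := odd_mul hS (s := g * u * g⁻¹) (u := g * v * g⁻¹)
    (by rw [← hg, mul_smul, mul_smul, inv_smul_smul, hup]) (by simpa using hu1)
    (by rw [conj_mul, hu, mul_one, mul_inv_cancel]) (by simpa using hv1)
    (by rw [conj_mul, hv, mul_one, mul_inv_cancel])
    (by rw [← hg, mul_smul, mul_smul, inv_smul_smul, ne_eq, smul_left_cancel_iff]; exact hvp)
  rw [conj_mul, ← MulAut.conj_apply, MulEquiv.orderOf_eq] at hodd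
  obtain ⟨m, hm⟩ := exists_zpow_conj_of_odd hu hv hodd
  exact ⟨_, hm⟩

theorem conj_invol {u v : G} (hu1 : u ≠ 1) (hu : u * u = 1) (hv1 : v ≠ 1) (hv : v * v = 1) :
    ∃ g : G, g * u * g⁻¹ = v := by
  obtain ⟨p, hp⟩ := exists_fix_invol hS hu
  by_cases hvp : v • p = p
  · have hex : ∃ c : Ω, c ≠ p := by
      rcases eq_or_ne p a with rfl | h
      · exact ⟨_, b_ne hS⟩
      · exact ⟨a, h.symm⟩
    obtain ⟨c, hc⟩ := hex
    obtain ⟨g, hg, -⟩ := two_trans hS hc.symm hc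
    set w := g * u * g⁻¹
    have hwc : w • c = c := by rw [← hg, mul_smul, mul_smul, inv_smul_smul, hp]
    have hw1 : w ≠ 1 := by simpa [w] using hu1
    have hw : w * w = 1 := by rw [conj_mul, hu, mul_one, mul_inv_cancel]
    have hvc : v • c ≠ c := fun h => hc (fix_unique hS hv1 hv h hvp)
    obtain ⟨k, hk⟩ := conj_of_fix_ne hS hw1 hw hv1 hv hwc hvc
    exact ⟨k * g, by rw [← hk]; simp [w, mul_assoc]⟩
  · exact conj_of_fix_ne hS hu1 hu hv1 hv hp hvp

theorem exists_sylow_le : ∃ P : Sylow 2 G, (P : Subgroup G) ≤ Q := by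
  haveI : Fact (Nat.Prime 2) := ⟨Nat.prime_two⟩
  obtain ⟨P⟩ := (inferInstance : Nonempty (Sylow 2 Q))
  obtain ⟨S, hS'⟩ := (P.isPGroup'.map Q.subtype).exists_le_sylow
  refine ⟨S, ?_⟩
  have hcard : Nat.card S = Nat.card (P.map Q.subtype : Subgroup G) := by
    rw [Subgroup.card_subtype, Sylow.card_eq_multiplicity, Sylow.card_eq_multiplicity,
      card_group hS]
    have hD : ¬ 2 ∣ Nat.card (D a t) * (Nat.card Q + 1) := by
      obtain ⟨k, hk⟩ := odd_D hS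
      obtain ⟨j, hj⟩ := hS.even_card
      rw [Nat.Prime.dvd_mul Nat.prime_two]
      omega
    rw [mul_assoc, Nat.factorization_mul Nat.card_pos.ne' (by
      intro h; rw [h] at hD; exact hD (dvd_zero 2))]
    rw [Finsupp.add_apply, Nat.factorization_eq_zero_of_not_dvd hD, add_zero]
  rw [← Subgroup.eq_of_le_of_card_ge hS' hcard.le]
  exact Subgroup.map_subtype_le _

theorem Q_fix_only {x : G} (hx : x ∈ Q) (hx1 : x ≠ 1) {p : Ω} (hp : x • p = p) : p = a := by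
  by_contra h
  exact hx1 (Q_semireg hS hx h hp)

theorem normalizer_le {X : Set G} (hX : X ⊆ (Q : Set G)) (h1 : ∃ x ∈ X, x ≠ 1) :
    Subgroup.normalizer X ≤ stabilizer G a := by
  intro g hg
  obtain ⟨x, hx, hx1⟩ := h1
  have hmem : g * x * g⁻¹ ∈ X := by
    rw [← Subgroup.mem_normalizer_iff_conj_image_eq.1 hg]
    exact ⟨x, hx, rfl⟩
  exact Q_fix_only hS (hX hmem) (by simpa using hx1)
    (by rw [mul_smul, mul_smul, inv_smul_smul, Q_fix hS (hX hx)])

end Cfsg.Agent.RankOne
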