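import Cfsg.Agent.RankOne.Setup

/-!
# The split rank-one set-up: counting involutions, structure equation, fixed points
-/

set_option autoImplicit false

namespace Cfsg.Agent.RankOne

open Subgroup MulAction

variable {G Ω : Type*} [Group G] [Finite G] [MulAction G Ω] {a : Ω} {t : G} {Q : Subgroup G}

/-- The involutions fixing `a`. -/
abbrev Ia (G : Type*) {Ω : Type*} [Group G] [MulAction G Ω] (a : Ω) : Set G :=
  Cfsg.involutionsIn (stabilizer G a : Set G)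

/-- The elements of the two-point stabiliser inverted by `t`. -/
abbrev K (a : Ω) (t : G) : Set G := Cfsg.invertedBy (D a t) t

omit [Finite G] in
theorem mem_Ia {u : G} : u ∈ Ia G a ↔ u • a = a ∧ u ≠ 1 ∧ u * u = 1 := Iff.rfl

variable (hS : Cfsg.IsRankOneSetup G Ω a t Q)
include hS

theorem mem_K {z : G} : z ∈ K a t ↔ z ∈ D a t ∧ t * z * t = z⁻¹ := mem_invertedBy hS.mul_self

theorem D_normalized : ∀ x ∈ D a t, t * x * t ∈ D a t := fun _ hx => D_conj_t hS hx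

theorem sqr_K {z : G} (hz : z ∈ K a t) : sqr (D a t) z ∈ K a t :=
  sqr_mem_invertedBy hS.mul_self (odd_D hS) (D_normalized hS) hz

theorem K_inv {z : G} (hz : z ∈ K a t) : z⁻¹ ∈ K a t := inv_mem_invertedBy hS.mul_self hz

theorem invol_t_mul {d : G} (hd : d ∈ K a t) :
    t * d ≠ 1 ∧ t * d * (t * d) = 1 ∧ (t * d) • a = t • a := by
  rw [mem_K hS] at hd
  have ha : (t * d) • a = t • a := by rw [mul_smul, hd.1.1]
  refine ⟨fun h => ?_, by rw [← mul_assoc, hd.2, inv_mul_cancel], ha⟩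
  rw [h, one_smul] at ha
  exact b_ne hS ha.symm

theorem t_mul_mem_K {u : G} (hu : u * u = 1) (hua : u • a = t • a) : t * u ∈ K a t := by
  have hub : u • t • a = a := by rw [← hua, ← mul_smul, hu, one_smul]
  rw [mem_K hS]
  refine ⟨mem_D.2 ⟨?_, ?_⟩, ?_⟩
  · rw [mul_smul, hua, t_smul_b hS]
  · rw [mul_smul, hub]
  · rw [← mul_assoc t t u, hS.mul_self, one_mul, mul_inv_rev, t_inv hS,
      inv_eq_self_of_sq hu]

omit [Finite G] hS in
theorem conj_invol_props {u : G} (g : G) (hu : u ≠ 1 ∧ u * u = 1) :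
    g * u * g⁻¹ ≠ 1 ∧ g * u * g⁻¹ * (g * u * g⁻¹) = 1 :=
  ⟨by simpa using hu.1, by rw [conj_mul, hu.2, mul_one, mul_inv_cancel]⟩

theorem pretransitive (x y : Ω) : ∃ g : G, g • x = y := by
  rcases eq_or_ne x y with rfl | h
  · exact ⟨1, one_smul _ _⟩
  · obtain ⟨g, hg, -⟩ := two_trans hS h h.symm
    exact ⟨g, hg⟩

theorem card_K : Nat.card (K a t) = Nat.card (Ia G a) := by
  classical
  haveI := finite_omega hS
  haveI : Fintype Ω := Fintype.ofFinite Ω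
  haveI : Fintype G := Fintype.ofFinite G
  let I := {u : G // u ≠ 1 ∧ u * u = 1}
  have hfp : ∀ u : I, ∃ p : Ω, u.1 • p = p := fun u => exists_fix_invol hS u.2.2
  choose f hf using hfp
  have hf_iff : ∀ (u : I) (p : Ω), f u = p ↔ u.1 • p = p :=
    fun u p => ⟨fun h => h ▸ hf u, fun h => fix_unique hS u.2.1 u.2.2 (hf u) h⟩
  have h1 : ∀ p : Ω, Nat.card {u : I // f u = p} = Nat.card (Ia G a) := by
    intro p
    obtain ⟨g, hg⟩ := pretransitive hS p a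
    refine Nat.card_eq_of_bijective
      (fun u => (⟨g * u.1.1 * g⁻¹, ?_, conj_invol_props g u.1.2⟩ : Ia G a)) ⟨?_, ?_⟩
    · show (g * u.1.1 * g⁻¹) • a = a
      rw [← hg, mul_smul, mul_smul, inv_smul_smul, (hf_iff _ _).1 u.2]
    · intro u v h
      exact Subtype.ext (Subtype.ext (mul_left_cancel (mul_right_cancel (congrArg Subtype.val h))))
    · rintro ⟨v, hv, hv'⟩
      have hprop : g⁻¹ * v * g ≠ 1 ∧ g⁻¹ * v * g * (g⁻¹ * v * g) = 1 := by
        simpa using conj_invol_props g⁻¹ hv'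
      refine ⟨⟨⟨g⁻¹ * v * g, hprop⟩, (hf_iff _ _).2 ?_⟩, Subtype.ext ?_⟩
      · have hv1 : v • a = a := hv
        show (g⁻¹ * v * g) • p = p
        rw [mul_smul, mul_smul, hg, hv1, ← hg, inv_smul_smul]
      · show g * (g⁻¹ * v * g) * g⁻¹ = v
        group
  have hI1 : Nat.card I = Nat.card Ω * Nat.card (Ia G a) := by
    rw [← Nat.card_congr (Equiv.sigmaFiberEquiv f), Nat.card_sigma]
    simp only [h1, Finset.sum_const, smul_eq_mul]
    simp [Nat.card_eq_fintype_card]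
  have h2 : ∀ c : Ω, Nat.card {u : I // u.1 • a = c} =
      if c = a then Nat.card (Ia G a) else Nat.card (K a t) := by
    intro c
    split_ifs with hc
    · subst hc
      rw [← h1 c]
      exact Nat.card_congr (Equiv.subtypeEquivRight fun u => (hf_iff u c).symm)
    · obtain ⟨x, hx, rfl⟩ := Q_trans hS hc
      have key : ∀ u : G, u • a = x • t • a → (x⁻¹ * u * x) • a = t • a := by
        intro u hu
        rw [mul_smul, mul_smul, Q_fix hS hx, hu, inv_smul_smul]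
      refine Nat.card_eq_of_bijective
        (fun u => (⟨t * (x⁻¹ * u.1.1 * x), t_mul_mem_K hS ?_ (key _ u.2)⟩ : K a t)) ⟨?_, ?_⟩
      · simpa using (conj_invol_props x⁻¹ u.1.2).2
      · intro u v h
        exact Subtype.ext (Subtype.ext
          (mul_left_cancel (mul_right_cancel (mul_left_cancel (congrArg Subtype.val h)))))
      · rintro ⟨z, hz⟩
        obtain ⟨hz1, hz2, hz3⟩ := invol_t_mul hS hz
        refine ⟨⟨⟨x * (t * z) * x⁻¹, conj_invol_props x ⟨hz1, hz2⟩⟩, ?_⟩, Subtype.ext ?_⟩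
        · show (x * (t * z) * x⁻¹) • a = x • t • a
          rw [mul_smul, mul_smul, Q_fix hS (Q.inv_mem hx), hz3]
        · show t * (x⁻¹ * (x * (t * z) * x⁻¹) * x) = z
          calc t * (x⁻¹ * (x * (t * z) * x⁻¹) * x) = t * t * z := by group
            _ = z := by rw [hS.mul_self, one_mul]
  have hI2 : Nat.card I = Nat.card (Ia G a) + Nat.card Q * Nat.card (K a t) := by
    rw [← Nat.card_congr (Equiv.sigmaFiberEquiv (fun u : I => u.1 • a)), Nat.card_sigma,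
      ← Finset.add_sum_erase _ _ (Finset.mem_univ a), h2 a, if_pos rfl]
    congr 1
    rw [Finset.sum_congr rfl (fun c hc => (h2 c).trans (if_neg (Finset.ne_of_mem_erase hc))),
      Finset.sum_const, smul_eq_mul, Finset.card_erase_of_mem (Finset.mem_univ a),
      Finset.card_univ, ← Nat.card_eq_fintype_card, card_omega hS, Nat.add_sub_cancel]
  rw [hI1, card_omega hS, Nat.succ_mul, add_comm] at hI2
  have hq : 0 < Nat.card Q := Nat.card_pos
  exact (Nat.eq_of_mul_eq_mul_left hq (Nat.add_left_cancel hI2)).symm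

/-- The structure equation. -/
theorem exists_structure :
    ∃ s r : G, s ∈ Ia G a ∧ r ∈ Q ∧ t * s * t = r⁻¹ * t * r := by
  obtain ⟨c, hc⟩ := exists_fix_invol hS hS.mul_self
  have hca : c ≠ a := fun h => b_ne hS (h ▸ hc)
  obtain ⟨r, hr, e⟩ := Q_trans hS hca
  refine ⟨t * (r⁻¹ * t * r) * t, r, ⟨?_, ?_⟩, hr, conj_conj_self hS.mul_self _⟩
  · show (t * (r⁻¹ * t * r) * t) • a = a
    rw [mul_smul, mul_smul, mul_smul, mul_smul, e, hc, ← e, inv_smul_smul, t_smul_b hS]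
  · refine ⟨fun h => hS.ne_one ?_, ?_⟩
    · have h1 : r⁻¹ * t * r = 1 := by
        rw [← conj_conj_self hS.mul_self (r⁻¹ * t * r), h, mul_one, hS.mul_self]
      calc t = r * (r⁻¹ * t * r) * r⁻¹ := by group
        _ = 1 := by rw [h1]; group
    · rw [conj_mul_conj hS.mul_self]
      have h1 : r⁻¹ * t * r * (r⁻¹ * t * r) = 1 := by
        calc r⁻¹ * t * r * (r⁻¹ * t * r) = r⁻¹ * (t * t) * r := by group
          _ = 1 := by rw [hS.mul_self]; group
      rw [h1, mul_one, hS.mul_self]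

theorem structure_fix {s r : G} (hs : s ∈ Ia G a) (e : t * s * t = r⁻¹ * t * r) :
    t • r • t • a = r • t • a := by
  have h1 : (t * s * t) • t • a = t • a := by
    rw [mul_smul, mul_smul, t_smul_b hS, hs.1]
  rw [e, mul_smul, mul_smul, inv_smul_eq_iff] at h1
  exact h1

theorem structure_unique {s r s' r' : G} (hs : s ∈ Ia G a) (hr : r ∈ Q)
    (e : t * s * t = r⁻¹ * t * r) (hs' : s' ∈ Ia G a) (hr' : r' ∈ Q)
    (e' : t * s' * t = r'⁻¹ * t * r') : s = s' ∧ r = r' := by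
  have h : r = r' := Q_eq_of_smul hS hr hr' (b_ne hS)
    (fix_unique hS hS.ne_one hS.mul_self (structure_fix hS hs e) (structure_fix hS hs' e'))
  refine ⟨?_, h⟩
  rw [← conj_conj_self hS.mul_self s, e, h, ← e', conj_conj_self hS.mul_self]

theorem centralizer_structure {s r : G} (hs : s ∈ Ia G a) (hr : r ∈ Q)
    (e : t * s * t = r⁻¹ * t * r) {d : G} (hd : d ∈ D a t) :
    t * d = d * t ↔ s * d = d * s := by
  have hs' : s = t * (r⁻¹ * t * r) * t := by rw [← e, conj_conj_self hS.mul_self]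
  have hfix := structure_fix hS hs e
  constructor
  · intro hc
    have hcp : d • r • t • a = r • t • a :=
      fix_of_commute hS hS.ne_one hS.mul_self hc hfix
    have hr' : d * r * d⁻¹ = r := by
      refine Q_eq_of_smul hS (hS.conj_mem d hd.1 r hr) hr (b_ne hS) ?_
      rw [mul_smul, mul_smul, (Subgroup.inv_mem _ hd).2]
      exact hcp
    have hrd : Commute d r := by
      show d * r = r * d
      exact mul_inv_eq_iff_eq_mul.1 hr'
    have htd : Commute d t := hc.symm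
    rw [hs']
    exact ((htd.mul_right ((hrd.inv_right.mul_right htd).mul_right hrd)).mul_right htd).symm.eq
  · intro hc
    -- `d' = t d t` commutes with `t s t = r⁻¹ t r`
    set d' := t * d * t with hd'
    have hd'D : d' ∈ D a t := D_conj_t hS hd
    have hcomm : Commute d' (r⁻¹ * t * r) := by
      show d' * _ = _
      rw [← e, hd', conj_mul_conj hS.mul_self, conj_mul_conj hS.mul_self, hc]
    set e' := r * d' * r⁻¹ with he'
    have hte : Commute e' t := by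
      show e' * t = t * e'
      calc e' * t = r * (d' * (r⁻¹ * t * r)) * r⁻¹ := by rw [he']; group
        _ = r * ((r⁻¹ * t * r) * d') * r⁻¹ := by rw [hcomm.eq]
        _ = t * e' := by rw [he']; group
    have hea : e' • a = a := by
      rw [he', mul_smul, mul_smul, Q_fix hS (Q.inv_mem hr), hd'D.1, Q_fix hS hr]
    have heD : e' ∈ D a t := by
      refine mem_D.2 ⟨hea, ?_⟩
      rw [← mul_smul, hte.eq, mul_smul, hea]
    have h1 : (r * (d' * r⁻¹ * d'⁻¹)) * d' = 1 * e' := by rw [he']; group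
    obtain ⟨-, h2⟩ := decomp_unique hS (Q.mul_mem hr (hS.conj_mem d' hd'D.1 _ (Q.inv_mem hr)))
      Q.one_mem hd'D heD h1
    rw [← h2] at hte
    have h3 : t * d' * t = d' := by rw [← hte.eq, mul_assoc, hS.mul_self, mul_one]
    have h4 : d = d' := by rw [← conj_conj_self hS.mul_self d, ← hd', h3]
    exact (h4 ▸ hte).eq.symm

theorem conj_mem_Ia {u d : G} (hu : u ∈ Ia G a) (hd : d • a = a) : d * u * d⁻¹ ∈ Ia G a := by
  refine ⟨?_, conj_invol_props d hu.2⟩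
  show (d * u * d⁻¹) • a = a
  rw [mul_smul, mul_smul, show d⁻¹ • a = a from inv_smul_eq_iff.2 hd.symm, hu.1, hd]

theorem K_conj_mem_Ia {u k : G} (hu : u ∈ Ia G a) (hk : k ∈ K a t) :
    k⁻¹ * u * k ∈ Ia G a := by
  simpa using conj_mem_Ia hS hu (inv_smul_eq_iff.2 hk.1.1.symm : k⁻¹ • a = a)

theorem trans_structure {s r : G} (hs : s ∈ Ia G a) (hr : r ∈ Q)
    (e : t * s * t = r⁻¹ * t * r) :
    ∀ u ∈ Ia G a, ∃ z ∈ K a t, z⁻¹ * s * z = u := by
  classical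
  let f : K a t → Ia G a := fun z => ⟨z.1⁻¹ * s * z.1, K_conj_mem_Ia hS hs z.2⟩
  have hinj : Function.Injective f := by
    rintro ⟨z₁, h₁⟩ ⟨z₂, h₂⟩ h
    have h' : z₁⁻¹ * s * z₁ = z₂⁻¹ * s * z₂ := congrArg Subtype.val h
    have hs2 : s * (z₂ * z₁⁻¹) = z₂ * z₁⁻¹ * s := by
      calc s * (z₂ * z₁⁻¹) = z₂ * (z₂⁻¹ * s * z₂) * z₁⁻¹ := by group
        _ = z₂ * z₁⁻¹ * s := by rw [← h']; group
    have hd : z₂ * z₁⁻¹ ∈ D a t := (D a t).mul_mem h₂.1 ((D a t).inv_mem h₁.1)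
    have := inverted_eq_of_commute hS.mul_self (odd_D hS) (D_normalized hS)
      (one_mem_invertedBy hS.mul_self) h₁ h₂
      (by rw [mul_one]; exact (centralizer_structure hS hs hr e hd).2 hs2)
    exact Subtype.ext this.symm
  intro u hu
  obtain ⟨⟨z, hz⟩, h⟩ :=
    (Nat.bijective_iff_injective_and_card f).2 ⟨hinj, card_K hS⟩ |>.2 ⟨u, hu⟩
  exact ⟨z, hz, congrArg Subtype.val h⟩

/-- For every involution `u` fixing `a` some `t * k` has the same centraliser in `D` as `u`. -/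
theorem exists_partner {u : G} (hu : u ∈ Ia G a) :
    ∃ k ∈ K a t, ∃ z ∈ K a t, t * k = z⁻¹ * t * z ∧
      ∀ d ∈ D a t, (t * k * d = d * (t * k) ↔ u * d = d * u) := by
  obtain ⟨s, r, hs, hr, e⟩ := exists_structure hS
  obtain ⟨z, hz, rfl⟩ := trans_structure hS hs hr e u hu
  have hz' := ((mem_K hS).1 hz).2
  have e' : t * (z * z) = z⁻¹ * t * z := by
    rw [← hz', mul_assoc (t * z) t t, hS.mul_self, mul_one, mul_assoc]
  refine ⟨z * z, (mem_K hS).2 ⟨(D a t).mul_mem hz.1 hz.1, ?_⟩, z, hz, e', fun d hd => ?_⟩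
  · rw [← conj_mul_conj hS.mul_self, hz', mul_inv_rev]
  · have hzd : z * d * z⁻¹ ∈ D a t :=
      (D a t).mul_mem ((D a t).mul_mem hz.1 hd) ((D a t).inv_mem hz.1)
    have key : ∀ w : G, z⁻¹ * w * z * d = d * (z⁻¹ * w * z) ↔
        w * (z * d * z⁻¹) = z * d * z⁻¹ * w := by
      intro w
      constructor <;> intro h
      · calc w * (z * d * z⁻¹) = z * (z⁻¹ * w * z * d) * z⁻¹ := by group
          _ = _ := by rw [h]; group
      · calc z⁻¹ * w * z * d = z⁻¹ * (w * (z * d * z⁻¹)) * z := by group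
          _ = _ := by rw [h]; group
    rw [e', key, key]
    exact centralizer_structure hS hs hr e hzd

theorem K_conj_injective {u k₁ k₂ : G} (hu : u ∈ Ia G a) (h₁ : k₁ ∈ K a t) (h₂ : k₂ ∈ K a t)
    (h : k₁⁻¹ * u * k₁ = k₂⁻¹ * u * k₂) : k₁ = k₂ := by
  obtain ⟨k, hk, -, -, -, hiff⟩ := exists_partner hS hu
  refine (inverted_eq_of_commute hS.mul_self (odd_D hS) (D_normalized hS) hk h₁ h₂
    ((hiff _ ((D a t).mul_mem h₂.1 ((D a t).inv_mem h₁.1))).2 ?_)).symm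
  calc u * (k₂ * k₁⁻¹) = k₂ * (k₂⁻¹ * u * k₂) * k₁⁻¹ := by group
    _ = k₂ * k₁⁻¹ * u := by rw [← h]; group

theorem K_transitive {u v : G} (hu : u ∈ Ia G a) (hv : v ∈ Ia G a) :
    ∃ k ∈ K a t, k⁻¹ * u * k = v := by
  classical
  let f : K a t → Ia G a := fun z => ⟨z.1⁻¹ * u * z.1, K_conj_mem_Ia hS hu z.2⟩
  have hinj : Function.Injective f := fun z z' h =>
    Subtype.ext (K_conj_injective hS hu z.2 z'.2 (congrArg Subtype.val h))
  obtain ⟨⟨z, hz⟩, h⟩ :=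
    (Nat.bijective_iff_injective_and_card f).2 ⟨hinj, card_K hS⟩ |>.2 ⟨v, hv⟩
  exact ⟨z, hz, congrArg Subtype.val h⟩

theorem cent_K_iff {v : G} (hv : v ∈ D a t) :
    (t * v = v * t ∧ ∀ z ∈ K a t, z * v = v * z) ↔ ∀ u ∈ Ia G a, u * v = v * u := by
  obtain ⟨s, r, hs, hr, e⟩ := exists_structure hS
  constructor
  · rintro ⟨hc, hK⟩ u hu
    obtain ⟨z, hz, rfl⟩ := trans_structure hS hs hr e u hu
    have h2 : Commute z v := hK z hz
    have h3 : Commute s v := (centralizer_structure hS hs hr e hv).1 hc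
    exact ((h2.inv_left.mul_left h3).mul_left h2).eq
  · intro h
    have hc : t * v = v * t := (centralizer_structure hS hs hr e hv).2 (h s hs)
    refine ⟨hc, fun z hz => ?_⟩
    have hvK : v * z * v⁻¹ ∈ K a t := by
      rw [mem_K hS] at hz ⊢
      have hv2 : t * v * t = v := by rw [hc, mul_assoc, hS.mul_self, mul_one]
      refine ⟨(D a t).mul_mem ((D a t).mul_mem hv hz.1) ((D a t).inv_mem hv), ?_⟩
      rw [← conj_mul_conj hS.mul_self, ← conj_mul_conj hS.mul_self, hv2, hz.2,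
        ← conj_inv hS.mul_self, hv2]
      group
    have h1 := h _ (K_conj_mem_Ia hS hs hz)
    have hsv := h s hs
    have heq : (v * z * v⁻¹)⁻¹ * s * (v * z * v⁻¹) = z⁻¹ * s * z := by
      calc (v * z * v⁻¹)⁻¹ * s * (v * z * v⁻¹) = v * (z⁻¹ * (v⁻¹ * (s * v)) * z) * v⁻¹ := by group
        _ = v * (z⁻¹ * s * z) * v⁻¹ := by rw [hsv, ← mul_assoc v⁻¹, inv_mul_cancel, one_mul]
        _ = z⁻¹ * s * z := by rw [← h1, mul_inv_cancel_right]
    have := K_conj_injective hS hs hvK hz heq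
    exact (mul_inv_eq_iff_eq_mul.1 this).symm

theorem cent_trans_point {X : Set G} (p : Ω) (hp : ∀ x ∈ X, x • p = p) {c₁ c₂ : Ω}
    (h₁ : c₁ ≠ p) (h₂ : c₂ ≠ p) (hc₁ : ∀ x ∈ X, x • c₁ = c₁) (hc₂ : ∀ x ∈ X, x • c₂ = c₂) :
    ∃ g ∈ Subgroup.centralizer X, g • p = p ∧ g • c₁ = c₂ := by
  obtain ⟨g, hg⟩ := pretransitive hS p a
  obtain ⟨⟨x, hx⟩, he, -⟩ := Q_regular hS (b := g • c₁) (c := g • c₂)
    (fun h => h₁ (smul_left_cancel g (h.trans hg.symm)))
    (fun h => h₂ (smul_left_cancel g (h.trans hg.symm)))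
  simp only at he
  refine ⟨g⁻¹ * x * g, ?_, by rw [mul_smul, mul_smul, hg, Q_fix hS hx, ← hg, inv_smul_smul],
    by rw [mul_smul, mul_smul, he, inv_smul_smul]⟩
  rw [Subgroup.mem_centralizer_iff]
  intro y hy
  have hya : (g * y * g⁻¹) • a = a := by
    rw [← hg, mul_smul, mul_smul, inv_smul_smul, hp y hy]
  have hfixc : ∀ c : Ω, y • c = c → (g * y * g⁻¹) • g • c = g • c := fun c hc => by
    rw [mul_smul, mul_smul, inv_smul_smul, hc]
  have hcomm : g * y * g⁻¹ * x * (g * y * g⁻¹)⁻¹ = x := by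
    refine Q_eq_of_smul hS (hS.conj_mem _ hya x hx) hx (c := g • c₁)
      (fun h => h₁ (smul_left_cancel g (h.trans hg.symm))) ?_
    have hi : (g * y * g⁻¹)⁻¹ • g • c₁ = g • c₁ :=
      inv_smul_eq_iff.2 (hfixc c₁ (hc₁ y hy)).symm
    rw [mul_smul, mul_smul, hi, he, hfixc c₂ (hc₂ y hy)]
  calc y * (g⁻¹ * x * g)
      = g⁻¹ * (g * y * g⁻¹ * x * (g * y * g⁻¹)⁻¹) * g * y := by group
    _ = g⁻¹ * x * g * y := by rw [hcomm]

theorem cent_two_trans {X : Set G}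
    (h3 : ∃ b c d : Ω, b ≠ c ∧ b ≠ d ∧ c ≠ d ∧ ∀ x ∈ X, x • b = b ∧ x • c = c ∧ x • d = d)
    {b₁ b₂ c₁ c₂ : Ω} (hb₁ : ∀ x ∈ X, x • b₁ = b₁) (hb₂ : ∀ x ∈ X, x • b₂ = b₂)
    (hc₁ : ∀ x ∈ X, x • c₁ = c₁) (hc₂ : ∀ x ∈ X, x • c₂ = c₂) (hb : b₁ ≠ b₂) (hc : c₁ ≠ c₂) :
    ∃ g ∈ Subgroup.centralizer X, g • b₁ = c₁ ∧ g • b₂ = c₂ := by
  have step : ∃ g ∈ Subgroup.centralizer X, g • b₁ = c₁ := by
    obtain ⟨u, v, w, huv, huw, hvw, hx⟩ := h3
    obtain ⟨p, hp, hpb, hpc⟩ : ∃ p, (∀ x ∈ X, x • p = p) ∧ b₁ ≠ p ∧ c₁ ≠ p := by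
      rcases eq_or_ne b₁ u with rfl | hu1
      · rcases eq_or_ne c₁ v with rfl | hv1
        · exact ⟨w, fun x hx' => (hx x hx').2.2, huw, hvw⟩
        · exact ⟨v, fun x hx' => (hx x hx').2.1, huv, hv1⟩
      · rcases eq_or_ne c₁ u with rfl | hu2
        · rcases eq_or_ne b₁ v with rfl | hv1
          · exact ⟨w, fun x hx' => (hx x hx').2.2, hvw, huw⟩
          · exact ⟨v, fun x hx' => (hx x hx').2.1, hv1, huv⟩
        · exact ⟨u, fun x hx' => (hx x hx').1, hu1, hu2⟩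
    obtain ⟨g, hg, -, e⟩ := cent_trans_point hS p hp hpb hpc hb₁ hc₁
    exact ⟨g, hg, e⟩
  obtain ⟨g, hg, e⟩ := step
  have hgfix : ∀ x ∈ X, x • g • b₂ = g • b₂ := by
    intro x hx
    rw [← mul_smul, Subgroup.mem_centralizer_iff.1 hg x hx, mul_smul, hb₂ x hx]
  obtain ⟨g', hg', e1, e2⟩ := cent_trans_point hS c₁ hc₁ (c₁ := g • b₂) (c₂ := c₂)
    (fun h => hb (smul_left_cancel g (h.trans e.symm)).symm) hc.symm hgfix hc₂
  exact ⟨g' * g, Subgroup.mul_mem _ hg' hg, by rw [mul_smul, e, e1], by rw [mul_smul, e2]⟩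

theorem cent_exists_involution {X : Set G} (hX : X ⊆ (D a t : Set G))
    (h3 : ∃ b c d : Ω, b ≠ c ∧ b ≠ d ∧ c ≠ d ∧ ∀ x ∈ X, x • b = b ∧ x • c = c ∧ x • d = d) :
    ∃ s ∈ Ia G a, ∀ x ∈ X, x * s = s * x := by
  have ha : ∀ x ∈ X, x • a = a := fun x hx => (hX hx).1
  have hb : ∀ x ∈ X, x • t • a = t • a := fun x hx => (hX hx).2
  obtain ⟨g, hg, e1, e2⟩ :=
    cent_two_trans hS h3 ha hb hb ha (b_ne hS).symm (b_ne hS)
  obtain ⟨k, m, hm, hkm⟩ := Nat.exists_eq_two_pow_mul_odd (n := orderOf g) (orderOf_pos g).ne'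
  obtain ⟨i, hi⟩ := hm
  set g₀ := g ^ m with hg₀
  have hg₀a : g₀ • a = t • a := by
    have : ∀ j : ℕ, g ^ (2 * j + 1) • a = t • a := by
      intro j
      induction j with
      | zero => simpa using e1
      | succ j ih =>
        rw [show 2 * (j + 1) + 1 = 1 + (1 + (2 * j + 1)) by ring, pow_add, pow_add, mul_smul,
          mul_smul, pow_one, ih, e2, e1]
    rw [hg₀, hi]; exact this i
  have hord : g₀ ^ 2 ^ k = 1 := by
    rw [hg₀, ← pow_mul, mul_comm, ← hkm, pow_orderOf_eq_one]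
  have hne : g₀ ≠ 1 := by
    intro h; rw [h, one_smul] at hg₀a; exact b_ne hS hg₀a.symm
  obtain ⟨p, hp⟩ := exists_fix hS ⟨k, hord⟩
  -- an involution in the group generated by `g₀`
  obtain ⟨j, hj1, hj2⟩ : ∃ j, g₀ ^ 2 ^ j ≠ 1 ∧ g₀ ^ 2 ^ (j + 1) = 1 := by
    classical
    have hex : ∃ j, g₀ ^ 2 ^ j = 1 := ⟨k, hord⟩
    have h0 : Nat.find hex ≠ 0 := fun h => hne (by simpa [h] using Nat.find_spec hex)
    refine ⟨Nat.find hex - 1, Nat.find_min hex (by omega), ?_⟩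
    rw [show Nat.find hex - 1 + 1 = Nat.find hex by omega]
    exact Nat.find_spec hex
  set w := g₀ ^ 2 ^ j with hw
  have hww : w * w = 1 := by rw [hw, ← pow_two, ← pow_mul, ← pow_succ, hj2]
  have hwc : w ∈ Subgroup.centralizer X := by
    rw [hw, hg₀, ← pow_mul]; exact Subgroup.pow_mem _ hg _
  have hwp : w • p = p := by
    have hmem : g₀ ∈ stabilizer G p := hp
    exact (stabilizer G p).pow_mem hmem (2 ^ j)
  have hXp : ∀ x ∈ X, x • p = p := fun x hx =>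
    fix_of_commute hS hj1 hww (Subgroup.mem_centralizer_iff.1 hwc x hx).symm hwp
  obtain ⟨c, hc, e3⟩ : ∃ c ∈ Subgroup.centralizer X, c • p = a := by
    rcases eq_or_ne p a with rfl | hpa
    · exact ⟨1, one_mem _, one_smul _ _⟩
    · obtain ⟨c, hc, e, -⟩ := cent_two_trans hS h3 hXp ha ha hb hpa (b_ne hS).symm
      exact ⟨c, hc, e⟩
  refine ⟨c * w * c⁻¹, ⟨?_, conj_invol_props c ⟨hj1, hww⟩⟩, fun x hx =>
    Subgroup.mem_centralizer_iff.1
      (Subgroup.mul_mem _ (Subgroup.mul_mem _ hc hwc) (Subgroup.inv_mem _ hc)) x hx⟩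
  show (c * w * c⁻¹) • a = a
  rw [← e3, mul_smul, mul_smul, inv_smul_smul, hwp]

theorem cent_stab_eq {X : Set G} (hX : X ⊆ (D a t : Set G)) {g : G} (hga : g • a = a)
    (hg : g ∈ Subgroup.centralizer X) :
    ∃ x ∈ Q, x ∈ Subgroup.centralizer X ∧ ∃ d ∈ D a t, d ∈ Subgroup.centralizer X ∧ g = x * d := by
  obtain ⟨x, hx, d, hd, rfl⟩ := decomp hS hga
  rw [Subgroup.mem_centralizer_iff] at hg
  have key : ∀ y ∈ X, y * x = x * y ∧ y * d = d * y := by
    intro y hy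
    have h1 : y * x * y⁻¹ * (y * d * y⁻¹) = x * d := by
      have := hg y hy
      calc y * x * y⁻¹ * (y * d * y⁻¹) = y * (x * d) * y⁻¹ := by group
        _ = _ := by rw [this]; group
    obtain ⟨h2, h3⟩ := decomp_unique hS (hS.conj_mem y (hX hy).1 x hx) hx
      ((D a t).mul_mem ((D a t).mul_mem (hX hy) hd) ((D a t).inv_mem (hX hy))) hd h1
    exact ⟨mul_inv_eq_iff_eq_mul.1 h2, mul_inv_eq_iff_eq_mul.1 h3⟩
  exact ⟨x, hx, Subgroup.mem_centralizer_iff.2 fun y hy => (key y hy).1, d, hd,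
    Subgroup.mem_centralizer_iff.2 fun y hy => (key y hy).2, rfl⟩

theorem cent_even {X : Set G} (hX : X ⊆ (D a t : Set G))
    (h3 : ∃ b c d : Ω, b ≠ c ∧ b ≠ d ∧ c ≠ d ∧ ∀ x ∈ X, x • b = b ∧ x • c = c ∧ x • d = d) :
    Even (Nat.card ↥(Subgroup.centralizer X ⊓ Q)) := by
  obtain ⟨s, hs, hc⟩ := cent_exists_involution hS hX h3
  have hmem : s ∈ Subgroup.centralizer X ⊓ Q :=
    ⟨Subgroup.mem_centralizer_iff.2 hc, invol_mem_Q hS hs.2.2 hs.1⟩
  have ho : orderOf (⟨s, hmem⟩ : ↥(Subgroup.centralizer X ⊓ Q)) = 2 :=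
    orderOf_eq_prime (Subtype.ext (by simpa [pow_two] using hs.2.2))
      (fun h => hs.2.1 (congrArg Subtype.val h))
  exact even_iff_two_dvd.2 (ho ▸ orderOf_dvd_natCard _)

theorem conj_into_cent {X : Set G} (hX : X ⊆ (D a t : Set G))
    (h3 : ∃ b c d : Ω, b ≠ c ∧ b ≠ d ∧ c ≠ d ∧ ∀ x ∈ X, x • b = b ∧ x • c = c ∧ x • d = d) :
    ∃ k ∈ K a t, ∀ x ∈ X, (k * x * k⁻¹) * t = t * (k * x * k⁻¹) := by
  obtain ⟨u, hu, hc⟩ := cent_exists_involution hS hX h3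
  obtain ⟨k, hk, z, hz, e, hiff⟩ := exists_partner hS hu
  refine ⟨z, hz, fun x hx => ?_⟩
  have h1 := (hiff x (hX hx)).2 (hc x hx).symm
  rw [e] at h1
  calc z * x * z⁻¹ * t = z * (x * (z⁻¹ * t * z)) * z⁻¹ := by group
    _ = t * (z * x * z⁻¹) := by rw [← h1]; group

theorem no_third_fix {x : G} (hx : x ∈ K a t) {c : Ω} (hca : c ≠ a) (hcb : c ≠ t • a)
    (hc : x • c = c) : x = 1 := by
  have hxD := ((mem_K hS).1 hx).1
  obtain ⟨z, hz, h⟩ := conj_into_cent hS (X := {x}) (by simpa using hxD)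
    ⟨a, t • a, c, (b_ne hS).symm, hca.symm, hcb.symm, fun y hy => by
      rw [Set.mem_singleton_iff.1 hy]; exact ⟨hxD.1, hxD.2, hc⟩⟩
  have h := h x rfl
  have hz' := ((mem_K hS).1 hz).2
  have hx' := ((mem_K hS).1 hx).2
  have h1 : z * x * z⁻¹ = z⁻¹ * x⁻¹ * z := by
    calc z * x * z⁻¹ = t * (z * x * z⁻¹) * t := by
          rw [← h, mul_assoc _ t t, hS.mul_self, mul_one]
      _ = z⁻¹ * x⁻¹ * z := by
          rw [← conj_mul_conj hS.mul_self, ← conj_mul_conj hS.mul_self, hz', hx',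
            ← conj_inv hS.mul_self, hz', inv_inv]
  have h2 : (z * z) * x * (z * z)⁻¹ = x⁻¹ := by
    calc (z * z) * x * (z * z)⁻¹ = z * (z * x * z⁻¹) * z⁻¹ := by group
      _ = _ := by rw [h1]; group
  have h4 : Commute (z * z * (z * z)) x := by
    show z * z * (z * z) * x = x * (z * z * (z * z))
    calc z * z * (z * z) * x = z * z * ((z * z) * x * (z * z)⁻¹) * (z * z) := by group
      _ = z * z * x⁻¹ * (z * z) := by rw [h2]
      _ = (z * z * x * (z * z)⁻¹)⁻¹ * (z * z * (z * z)) := by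
        simp only [mul_assoc, mul_inv_rev, inv_inv, inv_mul_cancel_left, mul_inv_cancel_left]
      _ = _ := by rw [h2, inv_inv]
  have h5 : Commute (z * z) x :=
    (commute_of_sq_commute (odd_D hS) ((D a t).mul_mem hz.1 hz.1) h4.symm.eq).symm
  rw [h5.eq, mul_inv_cancel_right] at h2
  exact eq_one_of_inv_eq (odd_D hS) hxD h2.symm

theorem K_fpf {x : G} (hx : x ∈ K a t) (hx1 : x ≠ 1) {y : G} (hy : y ∈ Q)
    (hc : x * y = y * x) : y = 1 := by
  by_contra hy1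
  have hxD := ((mem_K hS).1 hx).1
  refine hx1 (no_third_fix hS hx (c := y • t • a) (fun h => ?_) (fun h => hy1 (Q_inf_D hS hy h))
    (by rw [← mul_smul, hc, mul_smul, hxD.2]))
  exact b_ne hS (smul_left_cancel y (h.trans (Q_fix hS hy).symm))

theorem V_conj {X : Set G} {g : G} (hX : ∀ x ∈ X, x ∈ D a t ∧ t * x = x * t)
    (hY : ∀ x ∈ X, g * x * g⁻¹ ∈ D a t ∧ t * (g * x * g⁻¹) = g * x * g⁻¹ * t) :
    ∃ v ∈ D a t, t * v = v * t ∧ ∀ x ∈ X, v * x * v⁻¹ = g * x * g⁻¹ := by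
  set Y := (fun x => g * x * g⁻¹) '' X with hYdef
  obtain ⟨c, hc⟩ := exists_fix_invol hS hS.mul_self
  have hca : c ≠ a := fun h => b_ne hS (h ▸ hc)
  have hcb : c ≠ t • a := fun h => b_ne hS (by
    have h2 : t • t • a = t • a := by rw [← h]; exact hc
    rw [t_smul_b hS] at h2; exact h2.symm)
  have hYfix : ∀ y ∈ Y, y • a = a ∧ y • t • a = t • a ∧ y • c = c := by
    rintro y ⟨x, hx, rfl⟩
    exact ⟨(hY x hx).1.1, (hY x hx).1.2, fix_of_commute hS hS.ne_one hS.mul_self (hY x hx).2 hc⟩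
  have h3 : ∃ b c d : Ω, b ≠ c ∧ b ≠ d ∧ c ≠ d ∧ ∀ y ∈ Y, y • b = b ∧ y • c = c ∧ y • d = d :=
    ⟨a, t • a, c, (b_ne hS).symm, hca.symm, hcb.symm, hYfix⟩
  have hgfix : ∀ q : Ω, (∀ x ∈ X, x • q = q) → ∀ y ∈ Y, y • g • q = g • q := by
    rintro q hq y ⟨x, hx, rfl⟩
    rw [mul_smul, mul_smul, inv_smul_smul, hq x hx]
  obtain ⟨k, hk, e1, e2⟩ := cent_two_trans hS h3 (b₁ := g • a) (b₂ := g • t • a)
    (c₁ := a) (c₂ := t • a)
    (hgfix a fun x hx => (hX x hx).1.1) (hgfix (t • a) fun x hx => (hX x hx).1.2)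
    (fun y hy => (hYfix y hy).1) (fun y hy => (hYfix y hy).2.1)
    (fun h => b_ne hS (smul_left_cancel g h).symm) (b_ne hS).symm
  rw [← mul_smul] at e1 e2
  have hkg : k * g ∈ D a t := mem_D.2 ⟨e1, e2⟩
  obtain ⟨v, hv, hvt, z, hz, evz⟩ := inverted_factor hS.mul_self (odd_D hS) (D_normalized hS) hkg
  refine ⟨v, hv, hvt, fun x hx => ?_⟩
  have hconj : k * g * x * (k * g)⁻¹ = g * x * g⁻¹ := by
    have h5 := Subgroup.mem_centralizer_iff.1 hk _ ⟨x, hx, rfl⟩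
    simp only at h5
    calc k * g * x * (k * g)⁻¹ = k * (g * x * g⁻¹) * k⁻¹ := by group
      _ = _ := by rw [← h5, mul_inv_cancel_right]
  have hv2 : t * v * t = v := by rw [hvt, mul_assoc, hS.mul_self, mul_one]
  have hx2 : t * x * t = x := by rw [(hX x hx).2, mul_assoc, hS.mul_self, mul_one]
  have h6 : z⁻¹ * x * z = z * x * z⁻¹ := by
    have h7 : t * (g * x * g⁻¹) * t = g * x * g⁻¹ := by
      rw [(hY x hx).2, mul_assoc, hS.mul_self, mul_one]
    have hz' := ((mem_K hS).1 hz).2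
    rw [← hconj, evz, ← conj_mul_conj hS.mul_self, ← conj_mul_conj hS.mul_self,
      ← conj_mul_conj hS.mul_self, ← conj_inv hS.mul_self, ← conj_mul_conj hS.mul_self,
      hv2, hx2, hz'] at h7
    calc z⁻¹ * x * z = v⁻¹ * (v * z⁻¹ * x * (v * z⁻¹)⁻¹) * v := by group
      _ = _ := by rw [h7]; group
  have h8 : x * (z * z) = z * z * x := by
    calc x * (z * z) = z * (z⁻¹ * x * z) * z := by group
      _ = z * z * x := by rw [h6]; group
  have hzx : x * z = z * x := commute_of_sq_commute (odd_D hS) hz.1 h8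
  calc v * x * v⁻¹ = v * (x * z * z⁻¹) * v⁻¹ := by group
    _ = g * x * g⁻¹ := by rw [hzx, ← hconj, evz]; group

theorem exists_two_Ia (h2 : ∃ x y : G, x ≠ 1 ∧ y ≠ 1 ∧ x ≠ y ∧ x * x = 1 ∧ y * y = 1 ∧
    x * y = y * x) :
    ∃ s₁ ∈ Ia G a, ∃ s₂ ∈ Ia G a, s₁ ≠ s₂ ∧ s₁ * s₂ = s₂ * s₁ := by
  obtain ⟨x, y, hx, hy, hxy, hxx, hyy, hc⟩ := h2
  obtain ⟨p, hp⟩ := exists_fix_invol hS hxx
  have hyp : y • p = p := fix_of_commute hS hx hxx hc hp
  obtain ⟨g, hg⟩ := pretransitive hS p a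
  refine ⟨g * x * g⁻¹, ⟨?_, conj_invol_props g ⟨hx, hxx⟩⟩, g * y * g⁻¹,
    ⟨?_, conj_invol_props g ⟨hy, hyy⟩⟩, fun h => hxy (mul_left_cancel (mul_right_cancel h)),
    by rw [conj_mul, conj_mul, hc]⟩
  · show (g * x * g⁻¹) • a = a
    rw [← hg, mul_smul, mul_smul, inv_smul_smul, hp]
  · show (g * y * g⁻¹) • a = a
    rw [← hg, mul_smul, mul_smul, inv_smul_smul, hyp]

theorem odd_normal_le (h2 : ∃ x y : G, x ≠ 1 ∧ y ≠ 1 ∧ x ≠ y ∧ x * x = 1 ∧ y * y = 1 ∧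
    x * y = y * x) (N : Subgroup G) [N.Normal] (hN : Odd (Nat.card N)) :
    N ≤ stabilizer G a := by
  obtain ⟨s₁, h₁, s₂, h₂, hne, hc⟩ := exists_two_Ia hS h2
  intro x hx
  have hn : ∀ u : G, u * u = 1 → ∀ x ∈ N, u * x * u ∈ N := by
    intro u hu x hx
    have := Subgroup.Normal.conj_mem inferInstance x hx u
    rwa [inv_eq_self_of_sq hu] at this
  have h12a : (s₁ * s₂) • a = a := by rw [mul_smul, h₂.1, h₁.1]
  have h12 : s₁ * s₂ ≠ 1 ∧ s₁ * s₂ * (s₁ * s₂) = 1 := by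
    refine ⟨fun h => hne ?_, ?_⟩
    · rw [← mul_one s₁, ← h₂.2.2, ← mul_assoc, h, one_mul]
    · calc s₁ * s₂ * (s₁ * s₂) = s₁ * s₂ * (s₂ * s₁) := by rw [hc]
        _ = s₁ * (s₂ * s₂) * s₁ := by simp only [mul_assoc]
        _ = 1 := by rw [h₂.2.2, mul_one, h₁.2.2]
  exact mem_of_centralizers_le h₁.2.2 hN (hn s₁ h₁.2.2) h₂.2.2 hc.symm (hn s₂ h₂.2.2) _
    (fun y _ h => fix_of_commute hS h₁.2.1 h₁.2.2 h h₁.1)
    (fun y _ h => fix_of_commute hS h₂.2.1 h₂.2.2 h h₂.1)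
    (fun y _ h => fix_of_commute hS h12.1 h12.2 h h12a) hx

theorem inv_form {x g h f : G} (heq : t * x * t = g * h * t * f) :
    t * x⁻¹ * t = f⁻¹ * (t * h⁻¹ * t) * t * g⁻¹ := by
  rw [← conj_inv hS.mul_self, heq, mul_inv_rev, mul_inv_rev, mul_inv_rev, t_inv hS]
  simp only [mul_assoc]
  congr 1
  rw [← mul_assoc t t g⁻¹, hS.mul_self, one_mul]

theorem flip_form {x g h f : G} (hh : h ∈ D a t) (heq : t * x * t = g * h * t * f) :
    t * f * t = (h⁻¹ * g⁻¹ * h) * h⁻¹ * t * x := by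
  have hf : f = t * h⁻¹ * g⁻¹ * (t * x * t) := by
    calc f = t * t * f := by rw [hS.mul_self, one_mul]
      _ = t * h⁻¹ * g⁻¹ * (g * h * t * f) := by group
      _ = _ := by rw [heq]
  conv_lhs => rw [hf]
  have h1 : t * (t * h⁻¹ * g⁻¹ * (t * x * t)) * t =
      t * t * h⁻¹ * g⁻¹ * t * x * (t * t) := by group
  rw [h1, hS.mul_self]
  group

theorem h_identities {x g h f : G} (hx : x ∈ Q) (hg : g ∈ Q) (hh : h ∈ D a t)
    (hf : f ∈ Q) (heq : t * x * t = g * h * t * f) :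
    (∀ g₁ h₁ f₁ : G, g₁ ∈ Q → h₁ ∈ D a t → f₁ ∈ Q → t * x⁻¹ * t = g₁ * h₁ * t * f₁ →
        f₁ = g⁻¹ ∧ h₁ = t * h⁻¹ * t) ∧
      (∀ g₂ h₂ f₂ : G, g₂ ∈ Q → h₂ ∈ D a t → f₂ ∈ Q → t * f * t = g₂ * h₂ * t * f₂ →
        f₂ = x ∧ h₂ = h⁻¹) ∧
      ∀ c ∈ D a t, ∀ g₃ h₃ f₃ : G, g₃ ∈ Q → h₃ ∈ D a t → f₃ ∈ Q →
        t * (c⁻¹ * x * c) * t = g₃ * h₃ * t * f₃ →
          f₃ = (t * c * t)⁻¹ * f * (t * c * t) ∧ h₃ = (t * c * t)⁻¹ * h * c := by
  have hconjQ : ∀ d ∈ D a t, ∀ y ∈ Q, d⁻¹ * y * d ∈ Q := fun d hd y hy => by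
    simpa using hS.conj_mem d⁻¹ ((D a t).inv_mem hd).1 y hy
  refine ⟨fun g₁ h₁ f₁ hg₁ hh₁ hf₁ e => ?_, fun g₂ h₂ f₂ hg₂ hh₂ hf₂ e => ?_,
    fun c hc g₃ h₃ f₃ hg₃ hh₃ hf₃ e => ?_⟩
  · obtain ⟨-, h1, h2⟩ := canonical_unique hS hg₁ hh₁ hf₁ (Q.inv_mem hf)
      (D_conj_t hS ((D a t).inv_mem hh)) (Q.inv_mem hg) (e.symm.trans (inv_form hS heq))
    exact ⟨h2, h1⟩
  · obtain ⟨-, h1, h2⟩ := canonical_unique hS hg₂ hh₂ hf₂ (hconjQ h hh _ (Q.inv_mem hg))
      ((D a t).inv_mem hh) hx (e.symm.trans (flip_form hS hh heq))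
    exact ⟨h2, h1⟩
  · set c' := t * c * t with hc'
    have hc'D : c' ∈ D a t := D_conj_t hS hc
    have e' : t * (c⁻¹ * x * c) * t =
        (c'⁻¹ * g * c') * (c'⁻¹ * h * c) * t * (c'⁻¹ * f * c') := by
      rw [← conj_mul_conj hS.mul_self, ← conj_mul_conj hS.mul_self, heq, ← conj_inv hS.mul_self,
        ← hc']
      have h2 : c * t * c'⁻¹ = t := by
        rw [hc', conj_inv hS.mul_self]
        calc c * t * (t * c⁻¹ * t) = c * (t * t) * c⁻¹ * t := by group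
          _ = t := by rw [hS.mul_self, mul_one, mul_inv_cancel, one_mul]
      calc c'⁻¹ * (g * h * t * f) * c' = c'⁻¹ * g * h * t * (f * c') := by group
        _ = c'⁻¹ * g * h * (c * t * c'⁻¹) * (f * c') := by rw [h2]
        _ = _ := by group
    obtain ⟨-, h1, h2⟩ := canonical_unique hS hg₃ hh₃ hf₃ (hconjQ c' hc'D g hg)
      ((D a t).mul_mem ((D a t).mul_mem ((D a t).inv_mem hc'D) hh) hc) (hconjQ c' hc'D f hf)
      (e.symm.trans e')
    exact ⟨h2, h1⟩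

theorem h_product {x y gx hx fx gy hy fy : G} (hgx : gx ∈ Q) (hhx : hx ∈ D a t)
    (hfx : fx ∈ Q) (ex : t * x * t = gx * hx * t * fx)
    (hgy : gy ∈ Q) (hhy : hy ∈ D a t) (hfy : fy ∈ Q) (ey : t * y * t = gy * hy * t * fy)
    (hxyQ : x * y ∈ Q) (hxy : x * y ≠ 1) :
    fx * gy ≠ 1 ∧
      ∀ gz hz fz g' h' f' : G, gz ∈ Q → hz ∈ D a t → fz ∈ Q →
        t * (fx * gy) * t = gz * hz * t * fz →
        g' ∈ Q → h' ∈ D a t → f' ∈ Q → t * (x * y) * t = g' * h' * t * f' →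
          f' = (t * hy * t)⁻¹ * fz * (t * hy * t) * fy ∧ h' = hx * hz * hy := by
  have hmid : t * (x * y) * t = gx * hx * (t * (fx * gy) * t) * (t * hy * t) * fy := by
    rw [← conj_mul_conj hS.mul_self, ex, ey]
    calc gx * hx * t * fx * (gy * hy * t * fy) = gx * hx * (t * (fx * gy) * 1) * hy * t * fy := by
          group
      _ = gx * hx * (t * (fx * gy) * (t * t)) * hy * t * fy := by rw [hS.mul_self]
      _ = _ := by group
  have hd : t * hy * t ∈ D a t := D_conj_t hS hhy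
  have hconjQ : ∀ d ∈ D a t, ∀ y ∈ Q, d⁻¹ * y * d ∈ Q := fun d hd y hy => by
    simpa using hS.conj_mem d⁻¹ ((D a t).inv_mem hd).1 y hy
  refine ⟨fun h => ?_, fun gz hz fz g' h' f' hgz hhz hfz ez hg' hh' hf' e' => ?_⟩
  · rw [h, mul_one, hS.mul_self, mul_one] at hmid
    have h1 : (t * (x * y) * t) • a = a := by
      rw [hmid, mul_smul, mul_smul, mul_smul, Q_fix hS hfy, hd.1, hhx.1, Q_fix hS hgx]
    have h2 : (x * y) • t • a = t • a := by
      rw [mul_smul, mul_smul] at h1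
      exact smul_left_cancel t (h1.trans (t_smul_b hS).symm)
    exact hxy (Q_inf_D hS hxyQ h2)
  · have h2 : t * (t * hy * t) = hy * t := by
      rw [← mul_assoc, ← mul_assoc, hS.mul_self, one_mul]
    have hcan : t * (x * y) * t = (gx * (hx * gz * hx⁻¹)) * (hx * hz * hy) * t *
        ((t * hy * t)⁻¹ * fz * (t * hy * t) * fy) := by
      rw [hmid, ez]
      calc gx * hx * (gz * hz * t * fz) * (t * hy * t) * fy
          = gx * (hx * gz * hx⁻¹) * (hx * hz) * (t * (t * hy * t)) *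
              ((t * hy * t)⁻¹ * fz * (t * hy * t) * fy) := by group
        _ = _ := by rw [h2]; group
    obtain ⟨-, h1, h3⟩ := canonical_unique hS hg' hh' hf'
      (Q.mul_mem hgx (hS.conj_mem hx hhx.1 gz hgz))
      ((D a t).mul_mem ((D a t).mul_mem hhx hhz) hhy)
      (Q.mul_mem (hconjQ _ hd fz hfz) hfy) (e'.symm.trans hcan)
    exact ⟨h3, h1⟩

end Cfsg.Agent.RankOne
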